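import Cfsg.Agent.CosetCert.Basic

/-! Generated: the forty-five lines on the points 0 and 6, without the point 6. -/

set_option Elab.async false

namespace Cfsg.Agent.M22PairAut

/-- The lines of common neighbours of the two points. -/
def lns : List (List Nat) := [
  [40, 154, 3399, 3400], [43, 424, 434, 637], [47, 155, 1062, 1734], [59, 172, 1779, 2692],
  [62, 120, 3280, 3283], [66, 539, 550, 792], [68, 122, 1265, 1667], [70, 196, 875, 1543],
  [81, 136, 2000, 2498], [86, 217, 1581, 2433], [88, 89, 3103, 3217], [92, 636, 676, 689],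
  [93, 95, 1469, 1470], [96, 156, 1061, 1467], [97, 246, 708, 1361], [106, 112, 2244, 2245],
  [113, 173, 1778, 2242], [118, 274, 1396, 2179], [123, 124, 1263, 1264], [125, 197, 874, 1262],
  [137, 145, 1998, 1999], [146, 218, 1580, 1997], [157, 158, 1059, 1060], [174, 186, 1776, 1777],
  [291, 430, 2140, 2141], [308, 679, 1347, 2125], [338, 369, 1915, 2379], [370, 545, 1913, 1914],
  [391, 546, 1524, 1912], [392, 542, 1525, 2364], [427, 472, 1710, 2609], [431, 473, 1709, 2138],
  [474, 502, 1707, 1708], [612, 843, 1238, 1577], [703, 763, 1395, 1444], [767, 1008, 1393, 1394],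
  [773, 1013, 1041, 1392], [774, 1014, 1040, 1443], [862, 935, 1200, 1578], [868, 939, 1201, 1250],
  [869, 940, 1236, 1237], [944, 1191, 1239, 1251], [945, 953, 1198, 1199], [1049, 1050, 1052, 1127],
  [1051, 1128, 1133, 1381]]

/-- The common neighbours of the two points. -/
def apts : List Nat := lns.flatten

end Cfsg.Agent.M22PairAut
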