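import Cfsg.Agent.M22Local.Base
import Cfsg.Agent.M22PairAut.Data

/-!
# Finite checks for an automorphism exchanging the two points
-/

set_option autoImplicit false
set_option Elab.async false

namespace Cfsg.Agent.M22PairAut

open Cfsg.Agent.CosetCert Cfsg.Agent.CosetCert.Fi22U62 Cfsg.Agent.Fi22Out Cfsg.Agent.M22Local

/-- The images of the nine generating points under the outer automorphism. -/
noncomputable def sgp (x : Nat) : Nat :=
  Bool.rec (motive := fun _ => Nat) (gp x) 424 (Nat.beq x 7)

/-- The permutation of the points by the outer automorphism. -/
noncomputable def bet (q : Nat) : Nat := img ((path q).map sgp) 0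

/-- The permutation by the automorphism exchanging the two points. -/
noncomputable def qp (q : Nat) : Nat := force (img [1, 4] q) bet

/-- Being on one line with both points. -/
noncomputable def mate (x y : Nat) : Bool := apts.all fun w => !(fix w x) || fix w y

theorem swap_ok : (Nat.beq (qp 0) 6 && Nat.beq (qp 6) 0 && fix 0 6) = true := by decide +kernel

theorem apts_ok : (apts.all fun x => Nat.blt x 3510 && !(Nat.beq x 0) && !(Nat.beq x 6) &&
    fix 0 x && fix 6 x) = true := by decide +kernel

theorem apts_cover : allFrom (fun x => !(fix 0 x && fix 6 x) || Nat.beq x 0 || Nat.beq x 6 ||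
    apts.any fun w => Nat.beq w x) 0 3510 = true := by decide +kernel

/-- The shape of one line. -/
noncomputable def lineOk : List Nat → Bool
  | [] => false
  | x :: r => Nat.beq r.length 3 && (x :: r).all (fun u => r.all fun v => Nat.beq u v || fix u v) &&
      r.all fun y => mate x y

theorem lns_nodup : ∀ L ∈ lns, L.Nodup := by decide +kernel

theorem line_ok_a : (lns.take 15).all lineOk = true := by decide +kernel

theorem line_ok_b : ((lns.drop 15).take 15).all lineOk = true := by decide +kernel

theorem line_ok_c : (lns.drop 30).all lineOk = true := by decide +kernel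

theorem act_ok : (lns.all fun L => L.all fun x => L.any fun y => Nat.beq y (qp x)) = true := by
  decide +kernel

theorem pair_ok : (lns.all fun L => L.all fun x => L.all fun y =>
    Nat.beq x y || eqW [qp x, qp y] [x, y] || eqW [qp x, qp y] [0, 6, x, y]) = true := by decide +kernel

end Cfsg.Agent.M22PairAut
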