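import Cfsg.Agent.M22PairAut.Final

/-!
# No nontrivial odd-order subgroup is normalised by the large extraspecial subgroup
-/

set_option autoImplicit false

open Cfsg

namespace Cfsg.Agent.M22PairAut

open ThreeTrans

variable {G : Type*} [Group G] [Finite G] {D : Set G} {a b : G} {E : Subgroup G}
  {S : Type*} [Group S] {q : MulAut G} (h : Full D a b E S q)
include h

local notation "ψ" => (MulAut.conj : G →* MulAut G)

/-- An involution without fixed points inverts a finite group of odd order. -/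
theorem inverts {A : Type*} [Group A] [Finite A] {K : Subgroup A} {u : A}
    (hu : u * u = 1) (hn : u ∈ Subgroup.normalizer (K : Set A))
    (hfix : ∀ k ∈ K, Commute u k → k = 1) {k : A} (hk : k ∈ K) : u * k * u⁻¹ = k⁻¹ := by
  let φ : ↥K →* ↥K :=
    { toFun := fun n => ⟨u * n * u⁻¹, (Subgroup.mem_normalizer_iff.1 hn n).1 n.2⟩
      map_one' := Subtype.ext (by simp)
      map_mul' := fun x y => Subtype.ext (by simp [mul_assoc]) }
  have hfp : MonoidHom.FixedPointFree φ := fun x hx =>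
    Subtype.ext (hfix x x.2 (mul_inv_eq_iff_eq_mul.1 (congrArg Subtype.val hx)))
  have hui : u⁻¹ = u := inv_eq_of_mul_eq_one_right hu
  have h2 : Function.Involutive φ := fun x => Subtype.ext (by
    show u * (u * x * u⁻¹) * u⁻¹ = x
    rw [hui, ← mul_assoc, ← mul_assoc, hu, one_mul, mul_assoc, hu, mul_one])
  exact congrArg Subtype.val (congrFun (MonoidHom.FixedPointFree.coe_eq_inv_of_involutive hfp h2) ⟨k, hk⟩)

/-- A member moved by `b` is moved by a pair on a line to a different commuting member. -/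
theorem Full.exists_mover {p : G} (hp : p ∈ dperp D a) (hpb : ¬ Commute p b) :
    ∃ e ∈ E, Commute e b ∧ e * p * e⁻¹ ≠ p ∧ Commute (e * p * e⁻¹) p := by
  classical
  have hT := h.base.grp.1
  have hF := m22Full h.base.grp h.base.typ
  have hl := hF.data.layerLines a h.base.ha
  obtain ⟨x₀, hx₀⟩ : (dperp (dperp D a) b).Nonempty := Set.nonempty_of_ncard_ne_zero (by
    rw [(counts h.base.grp h.base.typ a h.base.ha).2.1 b h.base.hb]; norm_num)
  have h5 := hl.five b h.base.hb x₀ hx₀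
  set L := ln (dperp D a) b x₀
  have hLA : ∀ x ∈ L, x ≠ b → x ∈ dperp (dperp D a) b ∧ ln (dperp D a) b x = L := fun x hx hxb =>
    hl.pair b h.base.hb x₀ hx₀ b (mem_ln_left h.base.hb) x hx hxb.symm
  have hone : ∀ x ∈ L, ∀ y ∈ L, x ≠ b → y ≠ b → x ≠ y → ¬ (Commute p x ∧ Commute p y) := by
    intro x hx y hy hxb hyb hxy hc
    obtain ⟨-, he⟩ := hl.pair b h.base.hb x₀ hx₀ x hx y hy hxy
    have hb' : b ∈ ln (dperp D a) x y := he ▸ mem_ln_left h.base.hb
    exact hpb (hb'.2 p hp hc.1 hc.2)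
  set M := {x | x ∈ L ∧ x ≠ b ∧ ¬ Commute p x} with hM
  have hM2 : 1 < M.ncard := by
    have hsub : L \ {b} ⊆ M ∪ {x | x ∈ L ∧ x ≠ b ∧ Commute p x} := fun x hx => by
      by_cases hc : Commute p x
      · exact Or.inr ⟨hx.1, hx.2, hc⟩
      · exact Or.inl ⟨hx.1, hx.2, hc⟩
    have h1 := (Set.ncard_le_ncard hsub (Set.toFinite _)).trans (Set.ncard_union_le _ _)
    have h2 : ({x | x ∈ L ∧ x ≠ b ∧ Commute p x}).ncard ≤ 1 := by
      rw [Set.ncard_le_one (Set.toFinite _)]
      intro x hx y hy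
      by_contra hxy
      exact hone x hx.1 y hy.1 hx.2.1 hy.2.1 hxy ⟨hx.2.2, hy.2.2⟩
    rw [Set.ncard_sdiff_singleton_of_mem (show b ∈ L from mem_ln_left h.base.hb), h5] at h1
    omega
  obtain ⟨x, y, ⟨hxL, hxb, hpx⟩, ⟨hyL, hyb, hpy⟩, hxy⟩ := (Set.one_lt_ncard_iff (Set.toFinite _)).1 hM2
  obtain ⟨hxA, hxe⟩ := hLA x hxL hxb
  obtain ⟨hyA, -⟩ := hLA y hyL hyb
  have hy' : y ∈ ln (dperp D a) b x := hxe.symm ▸ hyL
  have hcxy : Commute x y := (hy'.2 x hxA.1 hxA.2.2.symm (Commute.refl x))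
  refine ⟨x * y, h.base.ker _ (mul_mem (h.base.hAK hxA) (h.base.hAK hyA)) fun z hz =>
      line_product_commute hT hl h.base.hb hxA hy' hyb hz,
    hxA.2.2.symm.mul_left hyA.2.2.symm, ?_, ?_⟩
  · intro e
    rw [mul_inv_rev, inv_eq hT hxA.1.1, inv_eq hT hyA.1.1,
      show x * y * p * (y * x) = x * (y * p * y) * x by simp only [mul_assoc]] at e
    have e' : y * p * y = x * p * x := by
      calc y * p * y = x * (x * (y * p * y) * x) * x := by
            simp only [mul_assoc, mul_self_mul hT hxA.1.1, mul_self hT hxA.1.1, mul_one]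
        _ = x * p * x := by rw [e]
    rw [← braid hT hp.1 hyA.1.1 hpy, ← braid hT hp.1 hxA.1.1 hpx] at e'
    exact hxy (mul_left_cancel (mul_right_cancel e')).symm
  · rw [mul_inv_rev, inv_eq hT hxA.1.1, inv_eq hT hyA.1.1,
      show x * y * p * (y * x) = x * (y * p * y) * x by simp only [mul_assoc]]
    have hc : Commute (x * p * x) (y * p * y) := by
      rw [← braid hT hp.1 hxA.1.1 hpx, ← braid hT hp.1 hyA.1.1 hpy]
      have := (commute_conj p x y).2 hcxy
      rwa [inv_eq hT hp.1] at this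
    have := (commute_conj x _ _).2 hc
    rw [inv_eq hT hxA.1.1, conj_twice (mul_self hT hxA.1.1)] at this
    exact this.symm

/-- No nontrivial subgroup of odd order is normalised. -/
theorem Full.no_odd (K : Subgroup (MulAut G)) (hK : Odd (Nat.card K))
    (hQK : h.Q ≤ Subgroup.normalizer (K : Set (MulAut G))) : K = ⊥ := by
  have hT := h.base.grp.1
  have hodd : ∀ k ∈ K, k * k = 1 → k = 1 := fun k hk h2 => orderOf_eq_one_iff.1
    (Nat.Coprime.eq_one_of_dvd (k := orderOf k) (m := 2)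
      (Nat.coprime_two_right.2 (hK.of_dvd_nat (Subgroup.orderOf_dvd_natCard _ hk)))
      (orderOf_dvd_of_pow_eq_one (by rw [sq, h2])))
  set w := ψ (a * b) with hw
  have hw2 : w * w = 1 := h.ww
  have hfixw : ∀ k ∈ K, Commute w k → k = 1 := by
    intro k hk hc
    have hkQ : k ∈ Subgroup.centralizer (h.Q : Set (MulAut G)) := by
      refine Subgroup.mem_centralizer_iff.2 fun r hr => ?_
      have hkC : k ∈ h.CA := Subgroup.mem_centralizer_singleton_iff.2 hc.symm.eq
      have hI := LargeExtra.inf_eq_bot_of_odd (K := K) (P := h.Q) hK (IsPGroup.of_card (n := 11) h.card_Q)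
      exact (LargeExtra.commute_of_inf_eq_bot hI hk hr (h.CA_le_normalizer hkC) (hQK hr)).symm
    rcases h.centralizer_Q hkQ with rfl | rfl
    · rfl
    · exact hodd _ hk hw2
  have hinvw : ∀ k ∈ K, w * k * w⁻¹ = k⁻¹ := fun k hk => inverts h hw2 (hQK h.w_mem) hfixw hk
  have hab : ∀ k ∈ K, ∀ l ∈ K, Commute k l := by
    intro k hk l hl
    have h1 := hinvw (k * l) (mul_mem hk hl)
    rw [show w * (k * l) * w⁻¹ = w * k * w⁻¹ * (w * l * w⁻¹) by group, hinvw k hk, hinvw l hl,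
      mul_inv_rev] at h1
    have h2 := congrArg (·⁻¹) h1
    simp only [mul_inv_rev, inv_inv] at h2
    exact h2.symm
  have hfixa : ∀ k ∈ K, Commute (ψ a) k → k = 1 := by
    intro k hk hc
    obtain ⟨c, rfl⟩ : k ∈ (ψ).range := by
      obtain ⟨m, hm⟩ := hK.of_dvd_nat (Subgroup.orderOf_dvd_natCard _ hk)
      have h1 : (k * k) ^ (m + 1) = k := by
        rw [← sq, ← pow_mul, show 2 * (m + 1) = orderOf k + 1 by omega, pow_succ, pow_orderOf_eq_one,
          one_mul]
      rw [← h1]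
      exact pow_mem (Subgroup.mul_self_mem_of_index_two h.idx k) _
    have hca : c * a * c⁻¹ = a := h.commute_conj_iff.1 hc.symm
    have hbc : b * c * b⁻¹ = c⁻¹ := by
      refine h.cinj ?_
      rw [map_mul, map_mul, map_inv, map_inv]
      have h1 := hinvw _ hk
      rw [hw, map_mul, mul_inv_rev, show ψ a * ψ b * ψ c * ((ψ b)⁻¹ * (ψ a)⁻¹) =
        ψ a * (ψ b * ψ c * (ψ b)⁻¹) * (ψ a)⁻¹ by group] at h1
      calc ψ b * ψ c * (ψ b)⁻¹ = (ψ a)⁻¹ * (ψ a * (ψ b * ψ c * (ψ b)⁻¹) * (ψ a)⁻¹) * ψ a := by group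
        _ = (ψ a)⁻¹ * (ψ c)⁻¹ * ψ a := by rw [h1]
        _ = (ψ c)⁻¹ := by rw [mul_assoc, ← hc.inv_right.eq, inv_mul_cancel_left]
    set p := c * b * c⁻¹ with hpdef
    have hbb : b⁻¹ = b := inv_eq hT h.base.hb.1
    have hsq : ∀ d : G, b * d * b⁻¹ = d⁻¹ → d * b * d⁻¹ * b = d * d := by
      intro d hd
      calc d * b * d⁻¹ * b = d * (b * d * b⁻¹)⁻¹ := by rw [hbb]; simp only [mul_inv_rev, hbb, mul_assoc]
        _ = d * d := by rw [hd, inv_inv]
    have hp2 := hsq c hbc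
    rw [← hpdef] at hp2
    have hp : p ∈ dperp D a := by
      refine ⟨h.base.grp.2.1 c b h.base.hb.1, fun e => h.base.ab_ne ?_, ?_⟩
      · exact (mul_left_cancel (mul_right_cancel (e.trans hca.symm))).symm
      · have := (commute_conj c a b).2 h.base.hb.2.2
        rwa [hca] at this
    by_cases hpb : Commute p b
    · refine hodd _ hk ?_
      have h1 : ψ (c * c) * ψ (c * c) = 1 := by
        rw [← map_mul, ← hp2, hpb.symm.mul_mul_mul_comm, mul_self hT hp.1, mul_self hT h.base.hb.1,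
          one_mul, map_one]
      have := hodd _ (by rw [map_mul]; exact mul_mem hk hk) h1
      rwa [map_mul] at this
    exfalso
    obtain ⟨e, he, heb, hne, hcom⟩ := h.exists_mover hp hpb
    set d := e * c * e⁻¹ with hddef
    have hdK : ψ d ∈ K := by
      rw [hddef, map_mul, map_mul, map_inv]
      exact (Subgroup.mem_normalizer_iff.1 (hQK (h.conj_mem_Q.2 he)) _).1 hk
    have hebc : e * b * e⁻¹ = b := by rw [heb.eq, mul_inv_cancel_right]
    have hdb : d * b * d⁻¹ = e * p * e⁻¹ := by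
      calc d * b * d⁻¹ = e * c * (e⁻¹ * b * e) * c⁻¹ * e⁻¹ := by rw [hddef]; group
        _ = e * p * e⁻¹ := by rw [mul_assoc e⁻¹, ← heb.eq, inv_mul_cancel_left, hpdef]; group
    have hd2 : e * p * e⁻¹ * b = d * d := by
      calc e * p * e⁻¹ * b = e * p * e⁻¹ * (e * b * e⁻¹) := by rw [hebc]
        _ = e * (p * b) * e⁻¹ := by group
        _ = d * d := by rw [hp2, hddef]; group
    have hX : e * p * e⁻¹ * p = d * d * (c * c)⁻¹ := by
      rw [← hd2, ← hp2, mul_inv_rev, hbb, inv_eq hT hp.1, mul_assoc _ b, mul_self_mul hT h.base.hb.1]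
    have hXK : ψ (e * p * e⁻¹ * p) ∈ K := by
      have e0 : ∀ u v : G, ψ (u * u * (v * v)⁻¹) = ψ u * ψ u * (ψ v * ψ v)⁻¹ := fun u v => by
        simp only [map_mul, map_inv]
      rw [hX, e0]
      exact mul_mem (mul_mem hdK hdK) (inv_mem (mul_mem hk hk))
    have hep : e * p * e⁻¹ ∈ D := h.base.grp.2.1 e p hp.1
    have hX1 := hodd _ hXK (by
      rw [← map_mul, hcom.symm.mul_mul_mul_comm, mul_self hT hep, mul_self hT hp.1, one_mul, map_one])
    refine hne ?_
    have h0 := h.cinj (hX1.trans (map_one _).symm)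
    rw [eq_inv_of_mul_eq_one_left h0, inv_eq hT hp.1]
  have hfixb : ∀ k ∈ K, Commute (ψ b) k → k = 1 := by
    intro k hk hc
    have hqK := Subgroup.mem_normalizer_iff.1 (hQK (inv_mem h.q_mem_Q)) k
    have hba : q⁻¹ * ψ b * q⁻¹⁻¹ = ψ a := by
      rw [inv_inv, mul_assoc, ← h.sw.left, ← conj_equivariant q a, inv_mul_cancel_left]
    have h1 : q⁻¹ * k * q⁻¹⁻¹ = 1 := hfixa _ (hqK.1 hk) (by
      rw [← hba]
      exact (commute_conj q⁻¹ (ψ b) k).2 hc)
    rw [mul_inv_eq_one, mul_eq_left] at h1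
    exact h1
  have haa : ψ a * ψ a = 1 := by rw [← map_mul, mul_self hT h.base.ha, map_one]
  have hbb : ψ b * ψ b = 1 := by rw [← map_mul, mul_self hT h.base.hb.1, map_one]
  have haQ : ψ a ∈ h.Q := h.conj_mem_Q.2 h.base.rad.mem_a
  have hbQ : ψ b ∈ h.Q := h.conj_mem_Q.2 h.base.b_mem
  rw [eq_bot_iff]
  intro k hk
  rw [Subgroup.mem_bot]
  have h1 := inverts h haa (hQK haQ) hfixa (inv_mem hk)
  have h2 := inverts h hbb (hQK hbQ) hfixb hk
  have h3 := hinvw k hk
  rw [hw, map_mul, mul_inv_rev, show ψ a * ψ b * k * ((ψ b)⁻¹ * (ψ a)⁻¹) =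
    ψ a * (ψ b * k * (ψ b)⁻¹) * (ψ a)⁻¹ by group, h2, h1, inv_inv] at h3
  exact hodd k hk (mul_eq_one_iff_eq_inv.2 h3)

theorem Full.large : IsLargeExtraspecial h.Q :=
  ⟨h.extraspecial, h.centralizer_eq, h.centralizer_center.le.trans h.CA_le_normalizer, h.no_odd⟩

end Cfsg.Agent.M22PairAut
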