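import Cfsg.Agent.M22O8.Cen
import Cfsg.Agent.M22PairAut.Check
import Cfsg.Agent.M22PairAut.Odd
import Cfsg.Agent.ThreeTrans.PairAutM24
import Cfsg.Agent.Fi22Out.Main

/-!
# An automorphism exchanging a pair
-/

set_option autoImplicit false

open Cfsg

namespace Cfsg.Agent.M22PairAut

open Cfsg.Agent.CosetCert Cfsg.Agent.CosetCert.Fi22U62 Cfsg.Agent.Fi22Out Cfsg.Agent.M22Local
open Cfsg.Agent.Fi22Trans (G t)
open ThreeTrans (dperp ln)

theorem sgp_leaf : ∀ x, x < 9 → (x, sgp x) ∈ leaf2 := by decide +kernel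

theorem exists_beta (A : Act) : ∃ β : MulAut G, ∀ c, c < 3510 → β (T c) = T (bet c) := by
  obtain ⟨σ, hσ⟩ := exists_sigma
  obtain ⟨β, hβ, -⟩ := (good_all σ).resolve_left (sigma_outer hσ)
  refine ⟨β, fun c _ => ?_⟩
  have hgen : ∀ x, x < 9 → β (gw [x]) = T (sgp x) := fun x hx => hβ _ (sgp_leaf x hx)
  have hw : ∀ w : List Nat, (∀ x ∈ w, x < 9) → β (gw w) = lp (w.map sgp) := by
    intro w
    induction w with
    | nil => intro _; rw [gw_nil, map_one, List.map_nil, lp_nil]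
    | cons x w ih =>
      intro hw
      rw [show gw (x :: w) = gw [x] * gw w from gw_append [x] w, map_mul,
        hgen x (hw x List.mem_cons_self), ih fun z hz => hw z (List.mem_cons_of_mem _ hz),
        List.map_cons, lp_cons]
  have ht : β t = T 0 := by
    rw [← gw_zero, hgen 0 (by norm_num)]
    congr 1
  rw [T_eq, map_mul, map_mul, map_inv, hw _ (path_lt c), ht, bet, M22O8.conjT A _ (by norm_num : 0 < 3510)]

theorem exists_q (A : Act) : ∃ q : MulAut G, ∀ c, c < 3510 → q (T c) = T (qp c) := by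
  obtain ⟨β, hβ⟩ := exists_beta A
  refine ⟨β * MulAut.conj (lp [1, 4])⁻¹, fun c hc => ?_⟩
  rw [MulAut.mul_apply, MulAut.conj_apply, inv_inv, M22O8.conjT A [1, 4] hc,
    hβ _ (M22O8.img_lt A _ hc), qp, force_eq]

variable {Γ : Type*} [Group Γ] [Finite Γ] {D : Set Γ}

/-- Every pair of commuting members has an exchanging automorphism. -/
theorem exists_swap (hD : IsThreeTranspositionGroup D) (hprim : IsPrimitiveUnderConj D)
    (h22 : IsOfTypeM22 Γ D) {a b : Γ} (ha : a ∈ D) (hb : b ∈ dperp D a) :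
    ∃ q : MulAut Γ, Swap D a b q := by
  classical
  obtain ⟨A⟩ := nonempty_act
  obtain ⟨C⟩ := M22O8.nonempty_ctx hD hprim h22
  have hs := swap_ok
  simp only [Bool.and_eq_true] at hs
  obtain ⟨⟨hs0, hs6⟩, hs06⟩ := hs
  have hl := List.all_eq_true.1 apts_ok
  have hb0 : C.M 6 ∈ dperp D (C.M 0) := ⟨C.M_mem 6, fun e =>
    absurd (M22O8.T_inj' A (by norm_num) (by norm_num) (C.e.injective e)) (by norm_num),
    C.commute_iff.2 ((M22O8.fixN A (by norm_num) (by norm_num)).1 hs06)⟩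
  obtain ⟨g₁, hg₁⟩ := ThreeTrans.class_isConj C.cls (C.M_mem 0) ha
  have hb₁ : g₁ * C.M 6 * g₁⁻¹ ∈ dperp D a := hg₁ ▸ ThreeTrans.dperp_conj hD.2.1 g₁ hb0
  obtain ⟨g₂, hg₂, hg₂b⟩ := ThreeTrans.exists_mv hD (ThreeTrans.m22Full hD h22) ha hb₁ hb
  have hg₂a : Commute g₂ a := (ThreeTrans.commute_of_mem_H (D := D) (d := a) rfl hg₂).symm
  let φ : G ≃* Γ := C.e.trans (MulAut.conj (g₂ * g₁))
  have hφ : ∀ c, φ (T c) ∈ D := fun c => hD.2.1 _ _ (C.M_mem c)
  have hpt : ∀ {d}, d ∈ D → ∃ c, c < 3510 ∧ φ (T c) = d := by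
    intro d hd
    obtain ⟨c, hc⟩ := C.exists_point A (hD.2.1 (g₂ * g₁)⁻¹ d hd)
    refine ⟨c, c.2, ?_⟩
    show g₂ * g₁ * C.M c * (g₂ * g₁)⁻¹ = d
    rw [← hc]; group
  have h0 : φ (T 0) = a := by
    show g₂ * g₁ * C.M 0 * (g₂ * g₁)⁻¹ = a
    rw [show g₂ * g₁ * C.M 0 * (g₂ * g₁)⁻¹ = g₂ * (g₁ * C.M 0 * g₁⁻¹) * g₂⁻¹ by group, hg₁, hg₂a.eq,
      mul_inv_cancel_right]
  have h6 : φ (T 6) = b := by
    show g₂ * g₁ * C.M 6 * (g₂ * g₁)⁻¹ = b
    rw [show g₂ * g₁ * C.M 6 * (g₂ * g₁)⁻¹ = g₂ * (g₁ * C.M 6 * g₁⁻¹) * g₂⁻¹ by group, hg₂b]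
  have hcm : ∀ {x y}, x < 3510 → y < 3510 → (fix x y = true ↔ Commute (φ (T x)) (φ (T y))) := by
    intro x y hx hy
    rw [M22O8.fixN A hx hy]
    refine ⟨fun h => h.map φ, fun h => ?_⟩
    have := h.map φ.symm
    rwa [MulEquiv.symm_apply_apply, MulEquiv.symm_apply_apply] at this
  have hne : ∀ {x y}, x < 3510 → y < 3510 → (φ (T x) = φ (T y) ↔ x = y) := fun hx hy =>
    ⟨fun h => M22O8.T_inj' A hx hy (φ.injective h), fun h => by rw [h]⟩
  -- the common neighbours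
  have hap : ∀ {w}, w ∈ apts → w < 3510 ∧ φ (T w) ∈ dperp (dperp D a) b := by
    intro w hw
    have h := hl w hw
    simp only [Bool.and_eq_true, Bool.not_eq_true'] at h
    obtain ⟨⟨⟨⟨hlt, n0⟩, n6⟩, f0⟩, f6⟩ := h
    have hlt' : w < 3510 := Nat.ble_eq.mp hlt
    refine ⟨hlt', ⟨hφ w, fun e => ?_, ?_⟩, fun e => ?_, ?_⟩
    · rw [(hne hlt' (by norm_num)).1 (e.trans h0.symm)] at n0; exact absurd n0 (by decide)
    · rw [← h0]; exact (hcm (by norm_num) hlt').1 f0
    · rw [(hne hlt' (by norm_num)).1 (e.trans h6.symm)] at n6; exact absurd n6 (by decide)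
    · rw [← h6]; exact (hcm (by norm_num) hlt').1 f6
  have hA : ∀ {d}, d ∈ dperp (dperp D a) b → ∃ w ∈ apts, φ (T w) = d := by
    intro d hd
    obtain ⟨c, hc, rfl⟩ := hpt hd.1.1
    have h := (allFrom_iff _ _ _).1 apts_cover c (Nat.zero_le _) (by omega)
    have f0 : fix 0 c = true := (hcm (by norm_num) hc).2 (by rw [h0]; exact hd.1.2.2)
    have f6 : fix 6 c = true := (hcm (by norm_num) hc).2 (by rw [h6]; exact hd.2.2)
    simp only [f0, f6, Bool.and_self, Bool.not_true, Bool.false_or, Bool.or_eq_true] at h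
    rcases h with (h | h) | h
    · exact absurd (by rw [Nat.eq_of_beq_eq_true h, h0]) hd.1.2.1
    · exact absurd (by rw [Nat.eq_of_beq_eq_true h, h6]) hd.2.1
    · obtain ⟨w, hw, hwc⟩ := List.any_eq_true.1 h
      exact ⟨w, hw, by rw [Nat.eq_of_beq_eq_true hwc]⟩
  have hline : ∀ {L}, L ∈ lns → ∀ {x}, x ∈ L →
      ln (dperp D a) b (φ (T x)) = insert b ((fun y => φ (T y)) '' {y | y ∈ L}) := by
    intro L hL x hx
    have hmem : ∀ {y}, y ∈ L → y ∈ apts := fun hy => List.mem_flatten.2 ⟨L, hL, hy⟩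
    have hok : lineOk L = true := by
      have hsplit : lns.take 15 ++ ((lns.drop 15).take 15 ++ lns.drop 30) = lns := by decide +kernel
      rw [← hsplit] at hL
      rcases List.mem_append.1 hL with h | h
      · exact List.all_eq_true.1 line_ok_a L h
      rcases List.mem_append.1 h with h | h
      exacts [List.all_eq_true.1 line_ok_b L h, List.all_eq_true.1 line_ok_c L h]
    obtain ⟨x₀, r, rfl⟩ : ∃ x₀ r, L = x₀ :: r := by
      cases L with
      | nil => simp at hx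
      | cons x₀ r => exact ⟨x₀, r, rfl⟩
    simp only [lineOk, Bool.and_eq_true, List.all_eq_true, Bool.or_eq_true] at hok
    obtain ⟨⟨hlen, hfx⟩, hm⟩ := hok
    obtain ⟨h0l, h0A⟩ := hap (hmem List.mem_cons_self)
    have hl5 := (ThreeTrans.m22Full hD h22).data.layerLines a ha
    have hco : ∀ y ∈ r, Commute (φ (T x₀)) (φ (T y)) := fun y hy => by
      rcases hfx x₀ List.mem_cons_self y hy with h | h
      · rw [Nat.eq_of_beq_eq_true h]
      · exact (hcm h0l (hap (hmem (List.mem_cons_of_mem _ hy))).1).1 h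
    have hsub : insert b ((fun y => φ (T y)) '' {y | y ∈ x₀ :: r}) ⊆ ln (dperp D a) b (φ (T x₀)) := by
      rintro u (rfl | ⟨y, hy, rfl⟩)
      · exact ThreeTrans.mem_ln_left hb
      rcases List.mem_cons.1 hy with rfl | hy
      · exact ThreeTrans.mem_ln_right h0A.1
      refine ⟨(hap (hmem (List.mem_cons_of_mem _ hy))).2.1, fun w hw hwb hwx => ?_⟩
      rcases eq_or_ne w b with rfl | hwne
      · exact (hap (hmem (List.mem_cons_of_mem _ hy))).2.2.2
      obtain ⟨v, hv, rfl⟩ := hA ⟨hw, hwne, hwb.symm⟩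
      have h := List.all_eq_true.1 (hm y hy) v hv
      rw [(hcm (hap hv).1 h0l).2 hwx, Bool.not_true, Bool.false_or] at h
      exact (hcm (hap hv).1 (hap (hmem (List.mem_cons_of_mem _ hy))).1).1 h
    have hfin : ((fun y => φ (T y)) '' {y | y ∈ x₀ :: r}).ncard = 4 := by
      rw [Set.InjOn.ncard_image (s := {y | y ∈ x₀ :: r})
          fun u hu v hv huv => (hne (hap (hmem hu)).1 (hap (hmem hv)).1).1 huv,
        show {y | y ∈ x₀ :: r} = ((x₀ :: r).toFinset : Set Nat) from (List.coe_toFinset _).symm,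
        Set.ncard_coe_finset, List.toFinset_card_of_nodup (lns_nodup _ hL), List.length_cons,
        Nat.eq_of_beq_eq_true hlen]
    have heq := Set.eq_of_subset_of_ncard_le hsub (by
      rw [hl5.five b hb _ h0A, Set.ncard_insert_of_notMem ?_ (Set.toFinite _), hfin]
      rintro ⟨y, hy, e⟩
      exact (hap (hmem hy)).2.2.1 e) (Set.toFinite _)
    rw [heq]
    have hxL : φ (T x) ∈ ln (dperp D a) b (φ (T x₀)) := heq ▸ Set.mem_insert_of_mem _ ⟨x, hx, rfl⟩
    exact (hl5.pair b hb _ h0A b (ThreeTrans.mem_ln_left hb) _ hxL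
      (hap (hmem hx)).2.2.1.symm).2
  obtain ⟨q₀, hq₀⟩ := exists_q A
  let q : MulAut Γ := MulAut.congr φ q₀
  have hq : ∀ {c}, c < 3510 → q (φ (T c)) = φ (T (qp c)) := by
    intro c hc
    show φ (q₀ (φ.symm (φ (T c)))) = _
    rw [MulEquiv.symm_apply_apply, hq₀ c hc]
  refine ⟨q, ?_, ?_, fun x hx => ?_, fun x hx y hy hyb hyx => ?_⟩
  · rw [← h0, hq (by norm_num), Nat.eq_of_beq_eq_true hs0, h6]
  · rw [← h6, hq (by norm_num), Nat.eq_of_beq_eq_true hs6, h0]
  · obtain ⟨w, hw, rfl⟩ := hA hx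
    obtain ⟨L, hL, hwL⟩ := List.mem_flatten.1 hw
    obtain ⟨v, hv, hvr⟩ := List.any_eq_true.1 (List.all_eq_true.1 (List.all_eq_true.1 act_ok L hL) w hwL)
    rw [hq (hap hw).1, ← Nat.eq_of_beq_eq_true hvr]
    exact ⟨(hap (List.mem_flatten.2 ⟨L, hL, hv⟩)).2, hline hL hwL ▸ Set.mem_insert_of_mem _ ⟨v, hv, rfl⟩⟩
  · obtain ⟨w, hw, rfl⟩ := hA hx
    obtain ⟨L, hL, hwL⟩ := List.mem_flatten.1 hw
    rw [hline hL hwL] at hy
    rcases hy with rfl | ⟨v, hvL, rfl⟩
    · exact absurd rfl hyb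
    have hv : v ∈ apts := List.mem_flatten.2 ⟨L, hL, hvL⟩
    have h := List.all_eq_true.1 (List.all_eq_true.1 (List.all_eq_true.1 pair_ok L hL) w hwL) v hvL
    simp only [Bool.or_eq_true] at h
    rw [map_mul, hq (hap hw).1, hq (hap hv).1, ← map_mul, ← map_mul]
    rcases h with (h | h) | h
    · exact absurd (by rw [Nat.eq_of_beq_eq_true h]) hyx
    · left
      have h1 := (eqW_iff A _ _).1 h
      rw [lp_pair, lp_pair] at h1
      rw [h1]
    · right
      have h1 := (eqW_iff A _ _).1 h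
      rw [lp_pair, show ([0, 6, w, v] : List Nat) = [0, 6] ++ [w, v] from rfl, lp_append, lp_pair,
        lp_pair] at h1
      rw [h1, map_mul, map_mul φ (T 0), h0, h6]

/-- Conjugations have index two in the automorphism group. -/
theorem range_index (hD : IsThreeTranspositionGroup D) (hprim : IsPrimitiveUnderConj D)
    (h22 : IsOfTypeM22 Γ D) : (MulAut.conj : Γ →* MulAut Γ).range.index = 2 := by
  obtain ⟨C⟩ := M22O8.nonempty_ctx hD hprim h22
  have hinj : Function.Injective (MulAut.conj : Γ →* MulAut Γ) := by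
    refine (injective_iff_map_eq_one _).2 fun s hs => Subgroup.mem_bot.1 (h22.1 ▸ ?_)
    exact Subgroup.mem_center_iff.2 fun u =>
      (mul_inv_eq_iff_eq_mul.1 (DFunLike.congr_fun hs u : s * u * s⁻¹ = u)).symm
  have h := (MulAut.conj : Γ →* MulAut Γ).range.card_mul_index
  rw [← Nat.card_congr (MonoidHom.ofInjective hinj).toEquiv,
    ← Nat.card_congr (MulAut.congr C.e).toEquiv,
    show Nat.card (MulAut G) = 2 * Nat.card G from ThreeTrans.card_mulAut_fi22,
    Nat.card_congr C.e.toEquiv, mul_comm 2] at h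
  exact Nat.eq_of_mul_eq_mul_left Nat.card_pos h

end Cfsg.Agent.M22PairAut
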