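import Cfsg.Agent.M22PairAut.Core

/-!
# The normal 2-subgroup of the centraliser of a pair in the automorphism group
-/

set_option autoImplicit false

open Cfsg

namespace Cfsg.Agent.M22PairAut

open ThreeTrans

/-- The data with an exchanging automorphism. -/
structure Full {G : Type*} [Group G] (D : Set G) (a b : G) (E : Subgroup G) (S : Type*) [Group S]
    (q : MulAut G) : Prop where
  base : Setup D a b E S
  sw : Swap D a b q
  idx : (MulAut.conj : G →* MulAut G).range.index = 2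

variable {G : Type*} [Group G] [Finite G] {D : Set G} {a b : G} {E : Subgroup G}
  {S : Type*} [Group S] {q : MulAut G} (h : Full D a b E S q)
include h

local notation "ψ" => (MulAut.conj : G →* MulAut G)

omit [Finite G] in
theorem Full.cinj : Function.Injective ψ := by
  refine (injective_iff_map_eq_one _).2 fun s hs => Subgroup.mem_bot.1 (h.base.typ.1 ▸ ?_)
  exact Subgroup.mem_center_iff.2 fun t =>
    (mul_inv_eq_iff_eq_mul.1 (DFunLike.congr_fun hs t : s * t * s⁻¹ = t)).symm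

omit [Finite G] h in
theorem conj_equivariant (α : MulAut G) (c : G) : α * ψ c = ψ (α c) * α :=
  MulEquiv.ext fun t => by simp [MulAut.mul_apply, map_mul]

omit [Finite G] in
theorem Full.commute_conj_iff {α : MulAut G} {x : G} : Commute α (ψ x) ↔ α x = x := by
  constructor
  · intro hc
    refine h.cinj (mul_right_cancel (b := α) ?_)
    rw [← conj_equivariant α x, hc.eq]
  · intro hx
    show α * ψ x = ψ x * α
    rw [conj_equivariant α x, hx]

omit [Finite G] in
theorem Full.qz : q (a * b) = a * b := by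
  rw [map_mul, h.sw.left, h.sw.right, h.base.hb.2.2.eq]

theorem Full.qE : ∀ e ∈ E, q e ∈ E ∧ (q e = e ∨ q e = a * b * e) := by
  have hcz : ∀ e ∈ E, Commute e (a * b) := fun e he => (mem_pairCen.1 (h.base.rad.le he)).1.mul_right
    (mem_pairCen.1 (h.base.rad.le he)).2
  intro e he
  suffices k : q e = e ∨ q e = a * b * e from
    ⟨k.elim (fun k => k.symm ▸ he) fun k => k.symm ▸ mul_mem h.base.rad.mem_ab he, k⟩
  have hg := pair_gen h.base.grp h.base.prim h.base.typ h.base.ha h.base.hb h.base.rad.card h.base.rad.mem_a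
    h.base.ker
  rw [← hg] at he
  induction he using Subgroup.closure_induction with
  | mem t ht =>
    rcases ht with rfl | ⟨x, hx, y, hy, hyb, hyx, rfl⟩
    · refine Or.inr ?_
      rw [h.sw.left, h.base.hb.2.2.eq, mul_assoc, mul_self h.base.grp.1 h.base.ha, mul_one]
    · exact h.sw.pair x hx y hy hyb hyx
  | one => exact Or.inl (map_one q)
  | mul u v hu hv i1 i2 =>
    have hu' : Commute u (a * b) := hcz u (hg ▸ hu)
    rw [map_mul]
    rcases i1 with e1 | e1 <;> rcases i2 with e2 | e2 <;> rw [e1, e2]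
    · exact Or.inl rfl
    · exact Or.inr (by rw [← mul_assoc, hu'.eq]; group)
    · exact Or.inr (by group)
    · exact Or.inl (by rw [show a * b * u * (a * b * v) = a * b * (u * (a * b)) * v by group, hu'.eq,
        ← mul_assoc (a * b), h.base.zz, one_mul])
  | inv u hu i1 =>
    have hu' : Commute u (a * b) := hcz u (hg ▸ hu)
    rw [map_inv]
    rcases i1 with e1 | e1 <;> rw [e1]
    · exact Or.inl rfl
    · refine Or.inr ?_
      rw [mul_inv_rev, inv_eq_of_mul_eq_one_right h.base.zz]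
      exact (hu'.inv_left).eq

theorem Full.q_eq_mod {e : G} (he : e ∈ E) : q (q e) = e := by
  rcases (h.qE e he).2 with k | k
  · rw [k, k]
  · rw [k, map_mul, h.qz, k, ← mul_assoc, h.base.zz, one_mul]

theorem Full.q_notMem : q ∉ (ψ).range := by
  rintro ⟨c, rfl⟩
  have hc : c ∈ Subgroup.centralizer ({a * b} : Set G) :=
    h.base.mem_C.2 (mul_inv_eq_iff_eq_mul.1 h.qz)
  have hcE := h.base.mem_of_mod hc fun e he => (h.qE e he).2
  have hca : c * a * c⁻¹ = a := by
    rw [(mem_pairCen.1 (h.base.rad.le hcE)).1.eq, mul_inv_cancel_right]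
  exact h.base.ab_ne (hca.symm.trans h.sw.left)

theorem Full.qA {x : G} (hx : x ∈ dperp (dperp D a) b) : q x * x⁻¹ ∈ E := by
  have hT := h.base.grp.1
  obtain ⟨hA, hl⟩ := h.sw.act x hx
  have hcomm : Commute (q x) x := (hl.2 x hx.1 hx.2.2.symm (Commute.refl x)).symm
  rw [inv_eq hT hx.1.1, hcomm.eq]
  exact h.base.ker _ (mul_mem (h.base.hAK hx) (h.base.hAK hA)) fun z hz => line_product_commute hT
    ((m22Full h.base.grp h.base.typ).data.layerLines a h.base.ha) h.base.hb hx hl hA.2.1 hz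

omit [Finite G] in
theorem Full.qC {c : G} (hc : c ∈ Subgroup.centralizer ({a * b} : Set G)) :
    q c ∈ Subgroup.centralizer ({a * b} : Set G) := by
  refine h.base.mem_C.2 ?_
  have := (h.base.mem_C.1 hc).map q
  rwa [h.qz] at this

theorem Full.q_diff {c : G} (hc : c ∈ Subgroup.centralizer ({a * b} : Set G)) : c⁻¹ * q c ∈ E := by
  have hC := fun {x} (hx : x ∈ dperp (dperp D a) b) => h.base.hAC hx
  set C := Subgroup.centralizer ({a * b} : Set G)
  obtain ⟨π, hπ, hker⟩ : ∃ π : ↥C →* MulAut S, Function.Surjective π ∧ ∀ c, π c = 1 ↔ (c : G) ∈ E :=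
    h.base.map
  refine h.base.mem_of_A (mul_mem (inv_mem hc) (h.qC hc)) fun x hx => ?_
  have hq : ∀ {y} (hy : y ∈ dperp (dperp D a) b), π ⟨q y, hC (h.sw.act y hy).1⟩ = π ⟨y, hC hy⟩ := by
    intro y hy
    have := (hker (⟨q y, hC (h.sw.act y hy).1⟩ * (⟨y, hC hy⟩ : ↥C)⁻¹)).2 (h.qA hy)
    rwa [map_mul, map_inv, mul_inv_eq_one] at this
  let c' : ↥C := ⟨c, hc⟩
  let d : ↥C := ⟨q c, h.qC hc⟩
  let x' : ↥C := ⟨x, hC hx⟩
  have hcx : c * x * c⁻¹ ∈ dperp (dperp D a) b := h.base.conj_A hc hx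
  have key : π d * π x' * (π d)⁻¹ = π c' * π x' * (π c')⁻¹ := by
    rw [← hq hx, ← map_inv, ← map_inv, ← map_mul, ← map_mul]
    conv_rhs => rw [hq hx, ← map_mul, ← map_mul,
      show c' * x' * c'⁻¹ = ⟨c * x * c⁻¹, hC hcx⟩ from rfl, ← hq hcx]
    congr 1
    exact Subtype.ext (by simp [d, map_mul])
  refine (hker (c'⁻¹ * d * x' * (c'⁻¹ * d)⁻¹ * x'⁻¹)).1 ?_
  simp only [map_mul, map_inv]
  calc (π c')⁻¹ * π d * π x' * ((π c')⁻¹ * π d)⁻¹ * (π x')⁻¹
      = (π c')⁻¹ * (π d * π x' * (π d)⁻¹) * π c' * (π x')⁻¹ := by group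
    _ = 1 := by rw [key]; group

theorem Full.q_sq : q * q = ψ 1 ∨ q * q = ψ (a * b) := by
  obtain ⟨c, hc⟩ := Subgroup.mul_self_mem_of_index_two h.idx q
  have hce : ∀ e ∈ E, c * e * c⁻¹ = e := fun e he => (DFunLike.congr_fun hc e).trans (h.q_eq_mod he)
  have hcC : c ∈ Subgroup.centralizer ({a * b} : Set G) :=
    h.base.mem_C.2 (mul_inv_eq_iff_eq_mul.1 (hce _ h.base.rad.mem_ab))
  have hcE := h.base.mem_of_mod hcC fun e he => Or.inl (hce e he)
  have h4 := h.base.four (h.base.rad.center c hcE fun e he => mul_inv_eq_iff_eq_mul.1 (hce e he))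
  have hqc : q c = c := h.commute_conj_iff.1 (by rw [hc]; exact (Commute.refl q).mul_right (Commute.refl q))
  rcases h4 with rfl | rfl | rfl | rfl
  · exact Or.inl hc.symm
  · exact absurd (hqc.symm.trans h.sw.left) h.base.ab_ne
  · exact absurd (h.sw.right.symm.trans hqc) h.base.ab_ne
  · exact Or.inr hc.symm

/-- The centraliser of the inner automorphism of the product. -/
def Full.CA (_h : Full D a b E S q) : Subgroup (MulAut G) :=
  Subgroup.centralizer ({ψ (a * b)} : Set (MulAut G))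

omit [Finite G] in
theorem Full.mem_CA {α : MulAut G} : α ∈ h.CA ↔ α (a * b) = a * b := by
  rw [Full.CA, Subgroup.mem_centralizer_singleton_iff]
  exact h.commute_conj_iff

omit [Finite G] in
theorem Full.conj_mem_CA {c : G} : ψ c ∈ h.CA ↔ c ∈ Subgroup.centralizer ({a * b} : Set G) := by
  rw [h.mem_CA, h.base.mem_C]
  exact mul_inv_eq_iff_eq_mul

omit [Finite G] in
theorem Full.q_mem_CA : q ∈ h.CA := h.mem_CA.2 h.qz

theorem Full.decomp {α : MulAut G} (hα : α ∈ h.CA) :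
    ∃ c ∈ Subgroup.centralizer ({a * b} : Set G), α = ψ c ∨ α = ψ c * q := by
  by_cases hr : α ∈ (ψ).range
  · obtain ⟨c, rfl⟩ := hr
    exact ⟨c, h.conj_mem_CA.1 hα, Or.inl rfl⟩
  obtain ⟨c, hc⟩ : α * q⁻¹ ∈ (ψ).range := (Subgroup.mul_mem_iff_of_index_two h.idx).2
    (iff_of_false hr fun k => h.q_notMem (inv_mem_iff.1 k))
  refine ⟨c, h.conj_mem_CA.1 ?_, Or.inr (by rw [hc, inv_mul_cancel_right])⟩
  rw [hc]
  exact mul_mem hα (inv_mem h.q_mem_CA)

theorem Full.q_sq_mem : ∃ e ∈ E, q * q = ψ e :=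
  h.q_sq.elim (fun k => ⟨1, one_mem _, k⟩) fun k => ⟨_, h.base.rad.mem_ab, k⟩

/-- The normal 2-subgroup. -/
def Full.Q (_h : Full D a b E S q) : Subgroup (MulAut G) where
  carrier := {α | ∃ e ∈ E, α = ψ e ∨ α = ψ e * q}
  one_mem' := ⟨1, one_mem _, Or.inl (map_one _).symm⟩
  mul_mem' := by
    rintro α β ⟨e, he, hα⟩ ⟨f, hf, hβ⟩
    obtain ⟨c, hc, hqq⟩ := _h.q_sq_mem
    have hqf := (_h.qE f hf).1
    rcases hα with rfl | rfl <;> rcases hβ with rfl | rfl
    · exact ⟨e * f, mul_mem he hf, Or.inl (map_mul _ e f).symm⟩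
    · exact ⟨e * f, mul_mem he hf, Or.inr (by rw [map_mul]; group)⟩
    · exact ⟨e * q f, mul_mem he hqf, Or.inr (by rw [mul_assoc, conj_equivariant, map_mul]; group)⟩
    · refine ⟨e * q f * c, mul_mem (mul_mem he hqf) hc, Or.inl ?_⟩
      rw [map_mul, map_mul, ← hqq, show ψ e * q * (ψ f * q) = ψ e * (q * ψ f) * q by group,
        conj_equivariant]
      group
  inv_mem' := by
    rintro α ⟨e, he, hα⟩
    obtain ⟨c, hc, hqq⟩ := _h.q_sq_mem
    rcases hα with rfl | rfl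
    · exact ⟨e⁻¹, inv_mem he, Or.inl (map_inv _ e).symm⟩
    · refine ⟨c⁻¹ * q e⁻¹, mul_mem (inv_mem hc) (_h.qE _ (inv_mem he)).1, Or.inr ?_⟩
      rw [map_mul, mul_assoc, ← conj_equivariant, map_inv, map_inv, ← hqq]
      group

theorem Full.conj_mem_Q {c : G} : ψ c ∈ h.Q ↔ c ∈ E := by
  refine ⟨?_, fun hc => ⟨c, hc, Or.inl rfl⟩⟩
  rintro ⟨e, he, k | k⟩
  · exact h.cinj k ▸ he
  · refine absurd ⟨e⁻¹ * c, ?_⟩ h.q_notMem
    rw [map_mul, map_inv, k, inv_mul_cancel_left]

theorem Full.q_mem_Q : q ∈ h.Q := ⟨1, one_mem _, Or.inr (by rw [map_one, one_mul])⟩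

theorem Full.w_mem : ψ (a * b) ∈ h.Q := h.conj_mem_Q.2 h.base.rad.mem_ab

theorem Full.Q_le : h.Q ≤ h.CA := by
  rintro α ⟨e, he, rfl | rfl⟩
  · exact h.conj_mem_CA.2 (h.base.EC he)
  · exact mul_mem (h.conj_mem_CA.2 (h.base.EC he)) h.q_mem_CA

theorem Full.card_Q : Nat.card ↥h.Q = 2 ^ 11 := by
  let f : ↥E × Bool → ↥h.Q := fun p =>
    if p.2 then ⟨ψ p.1 * q, p.1, p.1.2, Or.inr rfl⟩ else ⟨ψ p.1, p.1, p.1.2, Or.inl rfl⟩
  have hf : Function.Bijective f := by
    refine ⟨?_, fun α => ?_⟩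
    · rintro ⟨e, i⟩ ⟨e', i'⟩ k
      have k' := congrArg Subtype.val k
      cases i <;> cases i' <;> simp only [f, Bool.false_eq_true, if_false, if_true] at k'
      · exact Prod.ext (Subtype.ext (h.cinj k')) rfl
      · exact absurd ⟨(e' : G)⁻¹ * e, by rw [map_mul, map_inv, k', inv_mul_cancel_left]⟩ h.q_notMem
      · exact absurd ⟨(e : G)⁻¹ * e', by rw [map_mul, map_inv, ← k', inv_mul_cancel_left]⟩ h.q_notMem
      · exact Prod.ext (Subtype.ext (h.cinj (mul_right_cancel k'))) rfl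
    · obtain ⟨α, e, he, k | k⟩ := α
      · exact ⟨(⟨e, he⟩, false), Subtype.ext k.symm⟩
      · exact ⟨(⟨e, he⟩, true), Subtype.ext k.symm⟩
  rw [← Nat.card_congr (Equiv.ofBijective f hf), Nat.card_prod, h.base.rad.card, Nat.card_eq_fintype_card,
    Fintype.card_bool]
  norm_num

theorem Full.CA_le_normalizer : h.CA ≤ Subgroup.normalizer (h.Q : Set (MulAut G)) := by
  have hconj : ∀ α ∈ h.CA, ∀ x ∈ h.Q, α * x * α⁻¹ ∈ h.Q := by
    have hq : ∀ x ∈ h.Q, q * x * q⁻¹ ∈ h.Q := fun x hx =>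
      mul_mem (mul_mem h.q_mem_Q hx) (inv_mem h.q_mem_Q)
    have hc : ∀ c ∈ Subgroup.centralizer ({a * b} : Set G), ∀ x ∈ h.Q, ψ c * x * (ψ c)⁻¹ ∈ h.Q := by
      rintro c hc x ⟨e, he, rfl | rfl⟩
      · rw [← map_inv, ← map_mul, ← map_mul]
        exact h.conj_mem_Q.2 (h.base.conj_mem c hc e he)
      · rw [show ψ c * (ψ e * q) * (ψ c)⁻¹ = ψ c * ψ e * (q * ψ c⁻¹) by rw [map_inv]; group,
          conj_equivariant q c⁻¹, show ψ c * ψ e * (ψ (q c⁻¹) * q) = ψ c * ψ e * ψ (q c⁻¹) * q by group,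
          ← map_mul, ← map_mul, map_inv q c, show c * e * (q c)⁻¹ = c * (e * (c⁻¹ * q c)⁻¹) * c⁻¹ by group]
        exact mul_mem (h.conj_mem_Q.2 (h.base.conj_mem c hc _ (mul_mem he (inv_mem (h.q_diff hc))))) h.q_mem_Q
    intro α hα x hx
    obtain ⟨c, hcC, rfl | rfl⟩ := h.decomp hα
    · exact hc c hcC x hx
    · rw [show ψ c * q * x * (ψ c * q)⁻¹ = ψ c * (q * x * q⁻¹) * (ψ c)⁻¹ by group]
      exact hc c hcC _ (hq x hx)
  intro α hα
  rw [Subgroup.mem_normalizer_iff]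
  refine fun x => ⟨hconj α hα x, fun hx => ?_⟩
  have := hconj α⁻¹ (inv_mem hα) _ hx
  rwa [show α⁻¹ * (α * x * α⁻¹) * α⁻¹⁻¹ = x by group] at this

/-- The element of order two in the centre is central in the centraliser. -/
theorem Full.w_central {α : MulAut G} (hα : α ∈ h.CA) : Commute α (ψ (a * b)) :=
  Subgroup.mem_centralizer_singleton_iff.1 hα

theorem Full.centralizer_Q {α : MulAut G} (hα : α ∈ Subgroup.centralizer (h.Q : Set (MulAut G))) :
    α = 1 ∨ α = ψ (a * b) := by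
  have hfix : ∀ e ∈ E, α e = e := fun e he =>
    h.commute_conj_iff.1 (Subgroup.mem_centralizer_iff.1 hα _ (h.conj_mem_Q.2 he)).symm
  obtain ⟨c, hc, rfl | rfl⟩ := h.decomp (h.mem_CA.2 (hfix _ h.base.rad.mem_ab))
  · have hcE := h.base.mem_of_mod hc fun e he => Or.inl (hfix e he)
    have hqc : q c = c := h.commute_conj_iff.1 (Subgroup.mem_centralizer_iff.1 hα _ h.q_mem_Q)
    rcases h.base.four (h.base.rad.center c hcE fun e he => mul_inv_eq_iff_eq_mul.1 (hfix e he)) with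
      rfl | rfl | rfl | rfl
    · exact Or.inl (map_one _)
    · exact absurd (hqc.symm.trans h.sw.left) h.base.ab_ne
    · exact absurd (h.sw.right.symm.trans hqc) h.base.ab_ne
    · exact Or.inr rfl
  · exfalso
    have hcz : c * (a * b) * c⁻¹ = a * b := by
      rw [(h.base.mem_C.1 hc).eq, mul_inv_cancel_right]
    have hcE := h.base.mem_of_mod hc fun e he => by
      have k : c * q e * c⁻¹ = e := hfix e he
      rcases (h.qE e he).2 with k' | k' <;> rw [k'] at k
      · exact Or.inl k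
      · refine Or.inr ?_
        rw [show c * (a * b * e) * c⁻¹ = c * (a * b) * c⁻¹ * (c * e * c⁻¹) by group, hcz] at k
        calc c * e * c⁻¹ = a * b * (a * b * (c * e * c⁻¹)) := by rw [← mul_assoc, h.base.zz, one_mul]
          _ = a * b * e := by rw [k]
    have k : c * q a * c⁻¹ = a := hfix a h.base.rad.mem_a
    rw [h.sw.left, (mem_pairCen.1 (h.base.rad.le hcE)).2.eq, mul_inv_cancel_right] at k
    exact h.base.ab_ne k.symm

end Cfsg.Agent.M22PairAut
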