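import Cfsg.Agent.M22PairAut.PairGen
import Cfsg.Agent.ThreeTrans.PairFitting

/-!
# The centraliser of a pair in the automorphism group: the action on the quotient
-/

set_option autoImplicit false

open Cfsg

namespace Cfsg.Agent.M22PairAut

open ThreeTrans

/-- An automorphism exchanging a pair and fixing the lines through it. -/
structure Swap {G : Type*} [Group G] (D : Set G) (a b : G) (q : MulAut G) : Prop where
  left : q a = b
  right : q b = a
  act : ∀ x ∈ dperp (dperp D a) b, q x ∈ dperp (dperp D a) b ∧ q x ∈ ln (dperp D a) b x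
  pair : ∀ x ∈ dperp (dperp D a) b, ∀ y ∈ ln (dperp D a) b x, y ≠ b → y ≠ x →
    q (x * y) = x * y ∨ q (x * y) = a * b * (x * y)

/-- The data on the centraliser of a pair used below. -/
structure Setup {G : Type*} [Group G] (D : Set G) (a b : G) (E : Subgroup G) (S : Type*) [Group S] : Prop where
  grp : IsThreeTranspositionGroup D
  prim : IsPrimitiveUnderConj D
  typ : IsOfTypeM22 G D
  ha : a ∈ D
  hb : b ∈ dperp D a
  rad : PairRadical D a b E
  ker : ∀ x ∈ pairCen a b, (∀ y ∈ dperp (dperp D a) b, Commute y (x * y * x⁻¹)) → x ∈ E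
  conj_mem : ∀ c ∈ Subgroup.centralizer ({a * b} : Set G), ∀ x ∈ E, c * x * c⁻¹ ∈ E
  le : pairCen a b ≤ Subgroup.centralizer ({a * b} : Set G)
  index : ((pairCen a b).subgroupOf (Subgroup.centralizer ({a * b} : Set G))).index = 2
  simple : IsSimpleGroup S
  center : Subgroup.center S = ⊥
  card_inn : Nat.card S = 25920
  card_aut : Nat.card (MulAut S) = 51840
  map : ∃ π : ↥(Subgroup.centralizer ({a * b} : Set G)) →* MulAut S, Function.Surjective π ∧
    ∀ c, π c = 1 ↔ (c : G) ∈ E

variable {G : Type*} [Group G] [Finite G] {D : Set G} {a b : G} {E : Subgroup G}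
  {S : Type*} [Group S] (h : Setup D a b E S)
include h

theorem Setup.zz : a * b * (a * b) = 1 := (factor_two h.ha h.hb).sq_eq_one h.grp.1

omit [Finite G] in
theorem Setup.ab_ne : a ≠ b := h.hb.2.1.symm

omit [Finite G] in
theorem Setup.z_ne : a * b ≠ 1 := fun e => h.ab_ne (by
  rw [← inv_eq h.grp.1 h.ha, inv_eq_of_mul_eq_one_right e])

omit [Finite G] in
theorem Setup.mem_C {c : G} : c ∈ Subgroup.centralizer ({a * b} : Set G) ↔ Commute c (a * b) := by
  rw [Subgroup.mem_centralizer_singleton_iff]; exact Iff.rfl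

omit [Finite G] in
theorem Setup.hAK {x : G} (hx : x ∈ dperp (dperp D a) b) : x ∈ pairCen a b :=
  mem_pairCen.2 ⟨hx.1.2.2.symm, hx.2.2.symm⟩

omit [Finite G] in
theorem Setup.hAC {x : G} (hx : x ∈ dperp (dperp D a) b) :
    x ∈ Subgroup.centralizer ({a * b} : Set G) := h.le (h.hAK hx)

omit [Finite G] in
theorem Setup.b_mem : b ∈ E := by
  have := mul_mem h.rad.mem_a h.rad.mem_ab
  rwa [mul_self_mul h.grp.1 h.ha] at this

omit [Finite G] in
theorem Setup.EC {e : G} (he : e ∈ E) : e ∈ Subgroup.centralizer ({a * b} : Set G) := h.le (h.rad.le he)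

theorem Setup.four {v : G} (hv : v ∈ Subgroup.closure ({a, b} : Set G)) :
    v = 1 ∨ v = a ∨ v = b ∨ v = a * b :=
  ThreeTrans.mem_closure_pair h.grp.1 h.ha h.hb.1 h.hb.2.2 hv

theorem Setup.conj_A {c x : G} (hc : c ∈ Subgroup.centralizer ({a * b} : Set G))
    (hx : x ∈ dperp (dperp D a) b) : c * x * c⁻¹ ∈ dperp (dperp D a) b := by
  have hT := h.grp.1
  have hF := (m22Full h.grp h.typ).data
  have hd := h.grp.2.1
  have hprod : c * a * c⁻¹ * (c * b * c⁻¹) = a * b := by
    calc c * a * c⁻¹ * (c * b * c⁻¹) = c * (a * b) * c⁻¹ := by group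
      _ = a * b := by rw [(h.mem_C.1 hc).eq, mul_inv_cancel_right]
  have hcases : (c * a * c⁻¹ = a ∧ c * b * c⁻¹ = b) ∨ (c * a * c⁻¹ = b ∧ c * b * c⁻¹ = a) := by
    rcases pair_unique hT hF.noTwins h.ha h.hb.1 (hd c a h.ha) (hd c b h.hb.1) h.hb.2.2 h.ab_ne
      ((commute_conj c a b).2 h.hb.2.2) (fun e => h.ab_ne (mul_left_cancel (mul_right_cancel e)))
      hprod.symm with k | k
    · exact Or.inl ⟨k, by rw [k] at hprod; exact mul_left_cancel hprod⟩
    · exact Or.inr ⟨k, by rw [k] at hprod; exact mul_left_cancel (hprod.trans h.hb.2.2.eq)⟩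
  have h1 := (commute_conj c a x).2 hx.1.2.2
  have h2 := (commute_conj c b x).2 hx.2.2
  have n1 : c * x * c⁻¹ ≠ c * a * c⁻¹ := fun e => hx.1.2.1 (mul_left_cancel (mul_right_cancel e))
  have n2 : c * x * c⁻¹ ≠ c * b * c⁻¹ := fun e => hx.2.1 (mul_left_cancel (mul_right_cancel e))
  rcases hcases with ⟨e1, e2⟩ | ⟨e1, e2⟩ <;> rw [e1] at h1 n1 <;> rw [e2] at h2 n2
  · exact ⟨⟨hd c x hx.1.1, n1, h1⟩, n2, h2⟩
  · exact ⟨⟨hd c x hx.1.1, n2, h2⟩, n1, h1⟩

/-- The common neighbours do not all lie in the radical. -/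
theorem Setup.exists_notMem : ∃ x ∈ dperp (dperp D a) b, x ∉ E := by
  have hT := h.grp.1
  obtain ⟨s, hs⟩ : (dperp (dperp D a) b).Nonempty := Set.nonempty_of_ncard_ne_zero (by
    rw [(counts h.grp h.typ a h.ha).2.1 b h.hb]; norm_num)
  obtain ⟨x, hx, hxs⟩ := ((m22Full h.grp h.typ).data.layerNice a h.ha).sep b h.hb s hs
  refine ⟨x, hx, fun hxE => hxs ?_⟩
  have hm : s * x * s * x ∈ E := by
    have := mul_mem (h.conj_mem s (h.hAC hs) x hxE) hxE
    rwa [inv_eq hT hs.1.1] at this
  have hp3 : (s * x) ^ 3 = 1 := by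
    have hbr := braid hT hs.1.1 hx.1.1 fun e => hxs e.symm
    calc (s * x) ^ 3 = s * x * s * (x * s * x) := by rw [pow_succ, pow_two]; group
      _ = x * s * x * (x * s * x) := by rw [hbr]
      _ = 1 := by simp only [mul_assoc, mul_self_mul hT hx.1.1, mul_self_mul hT hs.1.1, mul_self hT hx.1.1]
  have hone : s * x * s * x = 1 := by
    have h1 : orderOf (s * x * s * x) ∣ 3 := orderOf_dvd_of_pow_eq_one (by
      rw [show s * x * s * x = (s * x) ^ 2 by rw [sq]; group, ← pow_mul, pow_mul', hp3, one_pow])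
    have h2 := Subgroup.orderOf_dvd_natCard _ hm
    rw [h.rad.card] at h2
    have h3 := Nat.dvd_gcd h1 h2
    rw [show Nat.gcd 3 (2 ^ 10) = 1 from rfl, Nat.dvd_one] at h3
    exact orderOf_eq_one_iff.1 h3
  have hinv : (s * x)⁻¹ = s * x := inv_eq_of_mul_eq_one_right (by rw [← hone]; group)
  rw [mul_inv_rev, inv_eq hT hs.1.1, inv_eq hT hx.1.1] at hinv
  exact hinv

omit [Finite G] in
theorem Setup.aut_cases (M : Subgroup (MulAut S)) [M.Normal] :
    M = ⊥ ∨ (MulAut.conj : S →* MulAut S).range ≤ M :=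
  letI := h.simple
  normal_mulAut_cases h.center M

omit [Finite G] in
theorem Setup.card_range : Nat.card ↥(MulAut.conj : S →* MulAut S).range = 25920 := by
  have hinj : Function.Injective (MulAut.conj : S →* MulAut S) := by
    refine (injective_iff_map_eq_one _).2 fun s hs => Subgroup.mem_bot.1 (h.center ▸ ?_)
    exact Subgroup.mem_center_iff.2 fun t =>
      (mul_inv_eq_iff_eq_mul.1 (DFunLike.congr_fun hs t : s * t * s⁻¹ = t)).symm
  rw [← h.card_inn]
  exact Nat.card_congr (MonoidHom.ofInjective hinj).toEquiv.symm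

omit [Finite G] in
theorem Setup.eq_one_of_inn {m : MulAut S} (hm : ∀ s, Commute m (MulAut.conj s)) : m = 1 := by
  refine MulEquiv.ext fun s => ?_
  have hinj : Function.Injective (MulAut.conj : S →* MulAut S) := by
    refine (injective_iff_map_eq_one _).2 fun s hs => Subgroup.mem_bot.1 (h.center ▸ ?_)
    exact Subgroup.mem_center_iff.2 fun t =>
      (mul_inv_eq_iff_eq_mul.1 (DFunLike.congr_fun hs t : s * t * s⁻¹ = t)).symm
  refine hinj ?_
  have h2 : m * MulAut.conj s * m⁻¹ = MulAut.conj (m s) :=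
    MulEquiv.ext fun t => by simp [MulAut.mul_apply, map_mul]
  rw [← h2, (hm s).eq, mul_inv_cancel_right, MulAut.one_apply]

/-- An element fixing the common neighbours modulo the radical lies in it. -/
theorem Setup.mem_of_A {c : G} (hc : c ∈ Subgroup.centralizer ({a * b} : Set G))
    (hA : ∀ x ∈ dperp (dperp D a) b, c * x * c⁻¹ * x⁻¹ ∈ E) : c ∈ E := by
  classical
  set C := Subgroup.centralizer ({a * b} : Set G)
  obtain ⟨π, hπ, hker⟩ : ∃ π : ↥C →* MulAut S, Function.Surjective π ∧ ∀ c, π c = 1 ↔ (c : G) ∈ E :=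
    h.map
  set N : Subgroup ↥C := Subgroup.closure {y | (y : G) ∈ dperp (dperp D a) b}
  haveI hN : N.Normal := by
    refine ⟨fun n hn g => ?_⟩
    induction hn using Subgroup.closure_induction with
    | mem y hy => exact Subgroup.subset_closure (h.conj_A g.2 hy)
    | one => rw [mul_one, mul_inv_cancel]; exact one_mem _
    | mul y y' _ _ i1 i2 =>
      have := mul_mem i1 i2
      rwa [show g * y * g⁻¹ * (g * y' * g⁻¹) = g * (y * y') * g⁻¹ by group] at this
    | inv y _ i1 =>
      have := inv_mem i1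
      rwa [show (g * y * g⁻¹)⁻¹ = g * y⁻¹ * g⁻¹ by group] at this
  haveI : (N.map π).Normal := hN.map π hπ
  rcases h.aut_cases (N.map π) with hb' | hle
  · obtain ⟨x, hx, hxE⟩ := h.exists_notMem
    refine absurd ?_ hxE
    refine (hker ⟨x, h.hAC hx⟩).1 (Subgroup.mem_bot.1 (hb' ▸ ?_))
    exact Subgroup.mem_map_of_mem π (Subgroup.subset_closure (show ((⟨x, h.hAC hx⟩ : ↥C) : G) ∈ dperp (dperp D a) b from hx))
  refine (hker ⟨c, hc⟩).1 (h.eq_one_of_inn fun s => ?_)
  obtain ⟨n, hn, hns⟩ := hle ⟨s, rfl⟩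
  rw [← hns]
  clear hns
  induction hn using Subgroup.closure_induction with
  | mem y hy =>
    have h1 : π (⟨c, hc⟩ * y * ⟨c, hc⟩⁻¹ * y⁻¹) = 1 := (hker _).2 (hA y hy)
    rw [map_mul, map_mul, map_mul, map_inv, map_inv, mul_inv_eq_one, mul_inv_eq_iff_eq_mul] at h1
    exact h1
  | one => rw [map_one]; exact Commute.one_right _
  | mul y y' _ _ i1 i2 =>
    rw [map_mul]
    exact i1.mul_right i2
  | inv y _ i1 => rw [map_inv]; exact i1.inv_right

/-- The elements which centralise the radical modulo the product of the pair. -/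
def Setup.modCen (_h : Setup D a b E S) : Subgroup ↥(Subgroup.centralizer ({a * b} : Set G)) where
  carrier := {c | ∀ e ∈ E, (c : G) * e * (c : G)⁻¹ = e ∨ (c : G) * e * (c : G)⁻¹ = a * b * e}
  one_mem' := fun e _ => Or.inl (by simp)
  mul_mem' := fun {c d} hc hd e he => by
    have hcz : (c : G) * (a * b) * (c : G)⁻¹ = a * b := by
      rw [Subgroup.mem_centralizer_singleton_iff.1 c.2, mul_inv_cancel_right]
    have key : ((c * d : ↥(Subgroup.centralizer ({a * b} : Set G))) : G) * e *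
        ((c * d : ↥(Subgroup.centralizer ({a * b} : Set G))) : G)⁻¹ =
        (c : G) * ((d : G) * e * (d : G)⁻¹) * (c : G)⁻¹ := by
      rw [Subgroup.coe_mul]; group
    rw [key]
    rcases hd e he with k | k <;> rw [k]
    · exact hc e he
    · rw [show (c : G) * (a * b * e) * (c : G)⁻¹ =
        (c : G) * (a * b) * (c : G)⁻¹ * ((c : G) * e * (c : G)⁻¹) by group, hcz]
      rcases hc e he with k' | k' <;> rw [k']
      · exact Or.inr rfl
      · exact Or.inl (by rw [← mul_assoc, _h.zz, one_mul])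
  inv_mem' := fun {c} hc e he => by
    have he' : (c : G)⁻¹ * e * c ∈ E := by
      have := _h.conj_mem _ (inv_mem c.2) e he
      rwa [inv_inv] at this
    have hk := hc _ he'
    rw [show (c : G) * ((c : G)⁻¹ * e * c) * (c : G)⁻¹ = e by group] at hk
    rw [Subgroup.coe_inv, inv_inv]
    rcases hk with k | k
    · exact Or.inl k.symm
    · refine Or.inr ?_
      conv_rhs => rw [k, ← mul_assoc, _h.zz, one_mul]

theorem Setup.modCen_normal : h.modCen.Normal := by
  refine ⟨fun c hc d e he => ?_⟩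
  have he' : (d : G)⁻¹ * e * d ∈ E := by
    have := h.conj_mem _ (inv_mem d.2) e he
    rwa [inv_inv] at this
  have hdz : (d : G) * (a * b) * (d : G)⁻¹ = a * b := by
    rw [Subgroup.mem_centralizer_singleton_iff.1 d.2, mul_inv_cancel_right]
  have key : ((d * c * d⁻¹ : ↥(Subgroup.centralizer ({a * b} : Set G))) : G) * e *
      ((d * c * d⁻¹ : ↥(Subgroup.centralizer ({a * b} : Set G))) : G)⁻¹ =
      (d : G) * ((c : G) * ((d : G)⁻¹ * e * d) * (c : G)⁻¹) * (d : G)⁻¹ := by
    rw [Subgroup.coe_mul, Subgroup.coe_mul, Subgroup.coe_inv]; group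
  rw [key]
  rcases hc _ he' with k | k <;> rw [k]
  · left; group
  · right
    rw [show (d : G) * (a * b * ((d : G)⁻¹ * e * d)) * (d : G)⁻¹ =
      (d : G) * (a * b) * (d : G)⁻¹ * e by group, hdz]

/-- Only elements of the radical centralise it modulo the product of the pair. -/
theorem Setup.mem_of_mod {c : G} (hc : c ∈ Subgroup.centralizer ({a * b} : Set G))
    (hE : ∀ e ∈ E, c * e * c⁻¹ = e ∨ c * e * c⁻¹ = a * b * e) : c ∈ E := by
  classical
  have hT := h.grp.1
  set C := Subgroup.centralizer ({a * b} : Set G)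
  obtain ⟨π, hπ, hker⟩ : ∃ π : ↥C →* MulAut S, Function.Surjective π ∧ ∀ c, π c = 1 ↔ (c : G) ∈ E :=
    h.map
  set K := (pairCen a b).subgroupOf C
  haveI hKn : K.Normal := Subgroup.normal_of_index_eq_two h.index
  haveI hMn := h.modCen_normal
  have hkK : π.ker ≤ K := fun g hg => h.rad.le ((hker g).1 hg)
  have hKc : Nat.card ↥(K.map π) = 25920 := by
    have h1 := (K.map π).card_mul_index
    rw [Subgroup.index_map_eq K hπ hkK, h.index, h.card_aut] at h1
    omega
  have h1 : ∀ g : ↥C, g ∈ h.modCen → g ∈ K → (g : G) ∈ E := by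
    intro g hg hgK
    haveI : ((h.modCen ⊓ K).map π).Normal := Subgroup.Normal.map inferInstance π hπ
    rcases h.aut_cases ((h.modCen ⊓ K).map π) with hb' | hle
    · exact (hker g).1 (Subgroup.mem_bot.1 (hb' ▸ Subgroup.mem_map_of_mem π ⟨hg, hgK⟩))
    exfalso
    have : Finite (MulAut S) := Nat.finite_of_card_ne_zero (by rw [h.card_aut]; norm_num)
    have heq : (h.modCen ⊓ K).map π = K.map π := by
      refine Subgroup.eq_of_le_of_card_ge (Subgroup.map_mono inf_le_right) ?_
      rw [hKc, ← h.card_range]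
      exact Nat.le_of_dvd Nat.card_pos (Subgroup.card_dvd_of_le hle)
    have hcentral : ∀ v ∈ E, v ∈ Subgroup.closure ({a, b} : Set G) := by
      intro v hv
      obtain ⟨hva, hvb⟩ := mem_pairCen.1 (h.rad.le hv)
      refine mem_of_central h.grp h.typ.1 (m22Full h.grp h.typ) h.ha h.hb hva hvb fun x hx => ?_
      refine h.rad.moves x hx v (h.grp.2.1 v x hx.1.1) ?_
      obtain ⟨n, hn, hnx⟩ : π ⟨x, h.hAC hx⟩ ∈ (h.modCen ⊓ K).map π :=
        heq ▸ Subgroup.mem_map_of_mem π (show (⟨x, h.hAC hx⟩ : ↥C) ∈ K from h.hAK hx)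
      have hm : (n : G)⁻¹ * x ∈ E := (hker (n⁻¹ * ⟨x, h.hAC hx⟩)).1 (by
        rw [map_mul, map_inv, hnx, inv_mul_cancel])
      set m := (n : G)⁻¹ * x with hmdef
      have hxe : x = n * m := by rw [hmdef, mul_inv_cancel_left]
      have hnz : (n : G) * (a * b) * (n : G)⁻¹ = a * b := by
        rw [Subgroup.mem_centralizer_singleton_iff.1 n.2, mul_inv_cancel_right]
      have hmv : m * v * m⁻¹ = v ∨ m * v * m⁻¹ = a * b * v := by
        rcases h.rad.comm m hm v hv with k | k
        · exact Or.inl (mul_inv_eq_one.1 k)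
        · exact Or.inr (mul_inv_eq_iff_eq_mul.1 k)
      have hxv : x * v * x⁻¹ = v ∨ x * v * x⁻¹ = a * b * v := by
        rw [show x * v * x⁻¹ = (n : G) * (m * v * m⁻¹) * (n : G)⁻¹ by rw [hxe]; group]
        rcases hmv with k | k <;> rw [k]
        · exact hn.1 v hv
        · rw [show (n : G) * (a * b * v) * (n : G)⁻¹ =
            (n : G) * (a * b) * (n : G)⁻¹ * ((n : G) * v * (n : G)⁻¹) by group, hnz]
          rcases hn.1 v hv with k' | k' <;> rw [k']
          · exact Or.inr rfl
          · exact Or.inl (by rw [← mul_assoc, h.zz, one_mul])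
      rw [show v * x * v⁻¹ * x⁻¹ = v * (x * v * x⁻¹)⁻¹ by group]
      rcases hxv with k | k <;> rw [k]
      · exact Or.inl (mul_inv_cancel v)
      · exact Or.inr (by rw [mul_inv_rev, mul_inv_cancel_left, inv_eq_of_mul_eq_one_left h.zz])
    have hsub : (E : Set G) ⊆ {1, a, b, a * b} := fun u hu => by simpa using h.four (hcentral u hu)
    have h4 := Set.ncard_le_ncard hsub (Set.toFinite _)
    rw [← Nat.card_coe_set_eq, SetLike.coe_sort_coe, h.rad.card] at h4
    have := Set.ncard_insert_le 1 ({a, b, a * b} : Set G)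
    have := Set.ncard_insert_le a ({b, a * b} : Set G)
    have := Set.ncard_insert_le b ({a * b} : Set G)
    have := Set.ncard_singleton (a * b)
    omega
  let c' : ↥C := ⟨c, hc⟩
  have hc' : c' ∈ h.modCen := hE
  by_cases hcK : c' ∈ K
  · exact h1 c' hc' hcK
  haveI : (h.modCen.map π).Normal := hMn.map π hπ
  rcases h.aut_cases (h.modCen.map π) with hb' | hle
  · exact (hker c').1 (Subgroup.mem_bot.1 (hb' ▸ Subgroup.mem_map_of_mem π hc'))
  exfalso
  have hsub : (h.modCen.map π : Set (MulAut S)) ⊆ {1, π c'} := by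
    rintro - ⟨g, hg, rfl⟩
    by_cases hgK : g ∈ K
    · exact Or.inl ((hker g).2 (h1 g hg hgK))
    · refine Or.inr ?_
      have hm : g * c'⁻¹ ∈ K := (Subgroup.mul_mem_iff_of_index_two h.index).2
        (iff_of_false hgK fun k => hcK (inv_mem_iff.1 k))
      have := (hker _).2 (h1 _ (mul_mem hg (inv_mem hc')) hm)
      rw [map_mul, map_inv, mul_inv_eq_one] at this
      exact this
  have : Finite (MulAut S) := Nat.finite_of_card_ne_zero (by rw [h.card_aut]; norm_num)
  have h2 := Set.ncard_le_ncard hsub (Set.toFinite _)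
  have h3 := Nat.le_of_dvd Nat.card_pos (Subgroup.card_dvd_of_le hle)
  rw [h.card_range, ← SetLike.coe_sort_coe, Nat.card_coe_set_eq] at h3
  have := Set.ncard_insert_le (1 : MulAut S) ({π c'} : Set (MulAut S))
  have := Set.ncard_singleton (π c')
  omega

end Cfsg.Agent.M22PairAut
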