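import Cfsg.Agent.M22PairAut.Aut
import Cfsg.Agent.LargeExtra.Basic

/-!
# The centraliser of a pair in the automorphism group: the large extraspecial subgroup
-/

set_option autoImplicit false

open Cfsg
open scoped commutatorElement

namespace Cfsg.Agent.M22PairAut

open ThreeTrans

variable {G : Type*} [Group G] [Finite G] {D : Set G} {a b : G} {E : Subgroup G}
  {S : Type*} [Group S] {q : MulAut G} (h : Full D a b E S q)
include h

local notation "ψ" => (MulAut.conj : G →* MulAut G)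

omit [Finite G] in
theorem Full.w_ne : ψ (a * b) ≠ 1 := fun e => h.base.z_ne (h.cinj (e.trans (map_one _).symm))

theorem Full.ww : ψ (a * b) * ψ (a * b) = 1 := by rw [← map_mul, h.base.zz, map_one]

theorem Full.w_comm {r : MulAut G} (hr : r ∈ h.Q) : Commute r (ψ (a * b)) := h.w_central (h.Q_le hr)

theorem Full.comm_mul {x y s : MulAut G} (hx : x ∈ h.Q)
    (h1 : ⁅x, s⁆ = 1 ∨ ⁅x, s⁆ = ψ (a * b)) (h2 : ⁅y, s⁆ = 1 ∨ ⁅y, s⁆ = ψ (a * b)) :
    ⁅x * y, s⁆ = 1 ∨ ⁅x * y, s⁆ = ψ (a * b) := by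
  rw [show ⁅x * y, s⁆ = x * ⁅y, s⁆ * x⁻¹ * ⁅x, s⁆ by simp only [commutatorElement_def]; group]
  rcases h1 with e1 | e1 <;> rcases h2 with e2 | e2 <;> rw [e1, e2]
  · left; group
  · right; rw [(h.w_comm hx).eq, mul_inv_cancel_right, mul_one]
  · right; group
  · left; rw [(h.w_comm hx).eq, mul_inv_cancel_right, h.ww]

theorem Full.comm_symm {x y : MulAut G} (h1 : ⁅x, y⁆ = 1 ∨ ⁅x, y⁆ = ψ (a * b)) :
    ⁅y, x⁆ = 1 ∨ ⁅y, x⁆ = ψ (a * b) := by
  rw [← commutatorElement_inv x y]
  rcases h1 with e | e <;> rw [e]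
  · left; exact inv_one
  · right; exact inv_eq_of_mul_eq_one_right h.ww

theorem Full.comm_q {e : G} (he : e ∈ E) : ⁅q, ψ e⁆ = 1 ∨ ⁅q, ψ e⁆ = ψ (a * b) := by
  rw [commutatorElement_def, conj_equivariant, mul_inv_cancel_right, ← map_inv, ← map_mul]
  rcases (h.qE e he).2 with k | k <;> rw [k]
  · left; rw [mul_inv_cancel, map_one]
  · right; rw [mul_inv_cancel_right]

theorem Full.comm_E {e f : G} (he : e ∈ E) (hf : f ∈ E) : ⁅ψ e, ψ f⁆ = 1 ∨ ⁅ψ e, ψ f⁆ = ψ (a * b) := by
  rw [← map_commutatorElement, commutatorElement_def]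
  rcases h.base.rad.comm e he f hf with k | k <;> rw [k]
  · exact Or.inl (map_one _)
  · exact Or.inr rfl

theorem Full.comm_Q {r s : MulAut G} (hr : r ∈ h.Q) (hs : s ∈ h.Q) :
    ⁅r, s⁆ = 1 ∨ ⁅r, s⁆ = ψ (a * b) := by
  have hgen : ∀ e ∈ E, ∀ s ∈ h.Q, ⁅ψ e, s⁆ = 1 ∨ ⁅ψ e, s⁆ = ψ (a * b) := by
    rintro e he s ⟨f, hf, rfl | rfl⟩
    · exact h.comm_E he hf
    · exact h.comm_symm (h.comm_mul (h.conj_mem_Q.2 hf) (h.comm_E hf he) (h.comm_q he))
  have hqs : ∀ s ∈ h.Q, ⁅q, s⁆ = 1 ∨ ⁅q, s⁆ = ψ (a * b) := by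
    rintro s ⟨f, hf, rfl | rfl⟩
    · exact h.comm_q hf
    · refine h.comm_symm (h.comm_mul (h.conj_mem_Q.2 hf) (h.comm_symm (h.comm_q hf)) (Or.inl ?_))
      exact commutatorElement_eq_one_iff_mul_comm.2 rfl
  obtain ⟨e, he, rfl | rfl⟩ := hr
  · exact hgen e he s hs
  · exact h.comm_mul (h.conj_mem_Q.2 he) (hgen e he s hs) (hqs s hs)

theorem Full.sq_Q {r : MulAut G} (hr : r ∈ h.Q) : r * r = 1 ∨ r * r = ψ (a * b) := by
  have hE : ∀ e ∈ E, ψ e * ψ e = 1 ∨ ψ e * ψ e = ψ (a * b) := fun e he => by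
    rw [← map_mul]
    rcases h.base.rad.sq e he with k | k <;> rw [k]
    · exact Or.inl (map_one _)
    · exact Or.inr rfl
  obtain ⟨e, he, rfl | rfl⟩ := hr
  · exact hE e he
  · have hqq : q * q = 1 ∨ q * q = ψ (a * b) := h.q_sq.imp_left fun k => k.trans (map_one _)
    have hw := h.w_comm (h.conj_mem_Q.2 he)
    rw [show ψ e * q * (ψ e * q) = ψ e * ⁅q, ψ e⁆ * ψ e * (q * q) by
      rw [commutatorElement_def]; group]
    rcases h.comm_q he with e1 | e1 <;> rcases hE e he with e2 | e2 <;> rcases hqq with e3 | e3 <;>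
      simp only [e1, e3, mul_one, hw.eq, mul_assoc, e2, ← mul_assoc (ψ (a * b)) (ψ (a * b)), h.ww,
        one_mul, true_or, or_true]

theorem Full.center_cases {c : ↥h.Q} (hc : c ∈ Subgroup.center ↥h.Q) :
    (c : MulAut G) = 1 ∨ (c : MulAut G) = ψ (a * b) :=
  h.centralizer_Q (Subgroup.mem_centralizer_iff.2 fun r hr =>
    congrArg Subtype.val (Subgroup.mem_center_iff.1 hc ⟨r, hr⟩))

theorem Full.w_center : (⟨ψ (a * b), h.w_mem⟩ : ↥h.Q) ∈ Subgroup.center ↥h.Q :=
  Subgroup.mem_center_iff.2 fun r => Subtype.ext (h.w_comm r.2).eq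

theorem Full.extraspecial : IsExtraspecial 2 ↥h.Q := by
  refine LargeExtra.extraspecial_of (IsPGroup.of_card (n := 11) h.card_Q) (w := ⟨_, h.w_mem⟩)
    (fun e => h.w_ne (congrArg Subtype.val e)) (Subtype.ext h.ww) h.w_center
    (fun c hc => (h.center_cases hc).imp (fun k => Subtype.ext k) fun k => Subtype.ext k)
    (fun r s => (h.comm_Q r.2 s.2).imp (fun k => Subtype.ext k) fun k => Subtype.ext k)
    (fun r => (h.sq_Q r.2).imp (fun k => Subtype.ext k) fun k => Subtype.ext k) ?_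
  refine ⟨⟨q, h.q_mem_Q⟩, ⟨ψ a, h.conj_mem_Q.2 h.base.rad.mem_a⟩, fun k => ?_⟩
  exact h.base.ab_ne ((h.commute_conj_iff.1 (congrArg Subtype.val k)).symm.trans h.sw.left)

theorem Full.center_map : (Subgroup.center ↥h.Q).map h.Q.subtype = Subgroup.zpowers (ψ (a * b)) := by
  refine le_antisymm ?_ (Subgroup.zpowers_le.2 ⟨_, h.w_center, rfl⟩)
  rintro - ⟨c, hc, rfl⟩
  rcases h.center_cases hc with k | k
  · rw [Subgroup.coe_subtype, k]; exact one_mem _
  · rw [Subgroup.coe_subtype, k]; exact Subgroup.mem_zpowers _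

theorem Full.centralizer_eq :
    Subgroup.centralizer (h.Q : Set (MulAut G)) = (Subgroup.center ↥h.Q).map h.Q.subtype := by
  refine le_antisymm (fun α hα => ?_) ?_
  · rw [h.center_map]
    rcases h.centralizer_Q hα with rfl | rfl
    exacts [one_mem _, Subgroup.mem_zpowers _]
  · rintro - ⟨c, hc, rfl⟩
    exact Subgroup.mem_centralizer_iff.2 fun r hr =>
      congrArg Subtype.val (Subgroup.mem_center_iff.1 hc ⟨r, hr⟩)

theorem Full.centralizer_center :
    Subgroup.centralizer (((Subgroup.center ↥h.Q).map h.Q.subtype : Subgroup (MulAut G)) : Set (MulAut G))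
      = h.CA := by
  rw [h.center_map, Subgroup.zpowers_eq_closure, Subgroup.centralizer_closure]
  rfl

theorem Full.CA_normal : (h.Q.subgroupOf h.CA).Normal :=
  (Subgroup.normal_subgroupOf_iff_le_normalizer h.Q_le).2 h.CA_le_normalizer

/-- The quotient is the automorphism group of the simple group. -/
theorem Full.exists_quotient : ∃ Φ : ↥h.CA →* MulAut S, Function.Surjective Φ ∧
    Φ.ker = h.Q.subgroupOf h.CA := by
  obtain ⟨π, hπ, hker⟩ := h.base.map
  haveI := h.CA_normal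
  let f : ↥(Subgroup.centralizer ({a * b} : Set G)) →* ↥h.CA :=
    ((ψ).comp (Subgroup.subtype _)).codRestrict _ fun c => h.conj_mem_CA.2 c.2
  let g := (QuotientGroup.mk' (h.Q.subgroupOf h.CA)).comp f
  have hgk : g.ker = π.ker := by
    ext c
    rw [MonoidHom.mem_ker, MonoidHom.mem_ker, hker, MonoidHom.comp_apply, QuotientGroup.mk'_apply,
      QuotientGroup.eq_one_iff, Subgroup.mem_subgroupOf]
    exact h.conj_mem_Q
  have hgs : Function.Surjective g := by
    intro x
    obtain ⟨⟨α, hα⟩, rfl⟩ := QuotientGroup.mk_surjective x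
    obtain ⟨c, hc, k | k⟩ := h.decomp hα
    · refine ⟨⟨c, hc⟩, ?_⟩
      rw [MonoidHom.comp_apply, show f ⟨c, hc⟩ = ⟨α, hα⟩ from Subtype.ext k.symm]
      rfl
    · refine ⟨⟨c, hc⟩, QuotientGroup.eq.2 (Subgroup.mem_subgroupOf.2 ?_)⟩
      show (ψ c)⁻¹ * α ∈ h.Q
      rw [k, inv_mul_cancel_left]
      exact h.q_mem_Q
  let e : (↥h.CA ⧸ h.Q.subgroupOf h.CA) ≃* MulAut S :=
    (QuotientGroup.quotientKerEquivOfSurjective g hgs).symm.trans
      ((QuotientGroup.quotientMulEquivOfEq hgk).trans (QuotientGroup.quotientKerEquivOfSurjective π hπ))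
  refine ⟨e.toMonoidHom.comp (QuotientGroup.mk' _), e.surjective.comp (QuotientGroup.mk'_surjective _), ?_⟩
  ext x
  simp

/-- The subgroup is the generalised Fitting subgroup of the centraliser. -/
theorem Full.generalizedFitting : generalizedFittingSubgroup ↥h.CA = h.Q.subgroupOf h.CA := by
  classical
  obtain ⟨Φ, hΦ, hker⟩ := h.exists_quotient
  haveI := h.CA_normal
  set QC := h.Q.subgroupOf h.CA
  have hk : ∀ x : ↥h.CA, Φ x = 1 ↔ x ∈ QC := fun x => by rw [← MonoidHom.mem_ker, hker]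
  haveI : Fact (Nat.Prime 2) := ⟨Nat.prime_two⟩
  have hp : IsPGroup 2 ↥QC := IsPGroup.of_card (n := 11)
    ((Nat.card_congr (Subgroup.subgroupOfEquivOfLe h.Q_le).toEquiv).trans h.card_Q)
  have hEF : QC ≤ fittingSubgroup ↥h.CA := Core.le_fittingSubgroup hp.isNilpotent
  have hFE : fittingSubgroup ↥h.CA ≤ QC := by
    haveI := Core.fittingSubgroup_isNilpotent (G := ↥h.CA)
    haveI : (fittingSubgroup ↥h.CA).Normal := inferInstance
    haveI : ((fittingSubgroup ↥h.CA).map Φ).Normal := Subgroup.Normal.map inferInstance Φ hΦ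
    have hMnil : Group.IsNilpotent ↥((fittingSubgroup ↥h.CA).map Φ) :=
      Group.nilpotent_of_surjective (Φ.subgroupMap (fittingSubgroup ↥h.CA)) (Φ.subgroupMap_surjective _)
    rcases h.base.aut_cases ((fittingSubgroup ↥h.CA).map Φ) with hb | hle
    · exact fun g hg => (hk g).1 (by rw [← Subgroup.mem_bot, ← hb]; exact Subgroup.mem_map_of_mem Φ hg)
    exfalso
    haveI := hMnil
    haveI : Group.IsNilpotent ↥(MulAut.conj : S →* MulAut S).range :=
      Group.nilpotent_of_mulEquiv (Subgroup.subgroupOfEquivOfLe hle)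
    letI := h.base.simple
    have hinj : Function.Injective (MulAut.conj : S →* MulAut S) := by
      refine (injective_iff_map_eq_one _).2 fun s hs => Subgroup.mem_bot.1 (h.base.center ▸ ?_)
      exact Subgroup.mem_center_iff.2 fun t =>
        (mul_inv_eq_iff_eq_mul.1 (DFunLike.congr_fun hs t : s * t * s⁻¹ = t)).symm
    haveI : Group.IsNilpotent S := Group.nilpotent_of_mulEquiv (MonoidHom.ofInjective hinj).symm
    have : Nontrivial S := IsSimpleGroup.toNontrivial
    have hsol : Group.IsSolvable S := inferInstance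
    exact bot_ne_top (h.base.center.symm.trans (eq_top_iff.2 fun x _ => Subgroup.mem_center_iff.2
      fun y => IsSimpleGroup.comm_iff_isSolvable.2 hsol y x))
  have hlayer : layer ↥h.CA = ⊥ := by
    refine le_bot_iff.1 (sSup_le fun L hL => ?_)
    exfalso
    have hLQ : L ≤ QC := by
      intro l hl
      have hc : (l : MulAut G) ∈ Subgroup.centralizer (h.Q : Set (MulAut G)) := by
        refine Subgroup.mem_centralizer_iff.2 fun r hr => ?_
        exact congrArg Subtype.val (Subgroup.mem_centralizer_iff.1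
          (Layer.fitting_le_centralizer_layer (hEF (show (⟨r, h.Q_le hr⟩ : ↥h.CA) ∈ QC from hr))) l
          (Layer.component_le_layer hL hl)).symm
      show (l : MulAut G) ∈ h.Q
      rcases h.centralizer_Q hc with k | k <;> rw [k]
      exacts [one_mem _, h.w_mem]
    refine Layer.qs_subgroup_not_abelian hL.2 ?_
    rw [Subgroup.commutator_eq_bot_iff_le_centralizer]
    exact fun l hl => Subgroup.mem_centralizer_iff.2 fun k hk' =>
      Subgroup.mem_centralizer_iff.1 (Layer.fitting_le_centralizer_layer (hEF (hLQ hl))) k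
        (Layer.component_le_layer hL hk')
  rw [generalizedFittingSubgroup, hlayer, bot_sup_eq]
  exact le_antisymm hFE hEF

end Cfsg.Agent.M22PairAut
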