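import Cfsg.Agent.ThreeTrans.PairExtraM22

/-!
# The 2-radical of the centraliser of a pair is generated by pairs on lines
-/

set_option autoImplicit false

open Cfsg

namespace Cfsg.Agent.M22PairAut

open ThreeTrans

variable {G : Type*} [Group G] [Finite G] {D : Set G} {a b : G}

/-- The pairs of members on a line with the given pair. -/
def pairProd (D : Set G) (a b : G) : Set G :=
  {t | ∃ x ∈ dperp (dperp D a) b, ∃ y ∈ ln (dperp D a) b x, y ≠ b ∧ y ≠ x ∧ t = x * y}

/-- The radical is generated by the member and the pairs on lines. -/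
theorem pair_gen (hD : IsThreeTranspositionGroup D) (hprim : IsPrimitiveUnderConj D)
    (h22 : IsOfTypeM22 G D) (ha : a ∈ D) (hb : b ∈ dperp D a) {E : Subgroup G}
    (hcard : Nat.card E = 2 ^ 10) (haE : a ∈ E)
    (hker : ∀ x ∈ pairCen a b, (∀ y ∈ dperp (dperp D a) b, Commute y (x * y * x⁻¹)) → x ∈ E) :
    Subgroup.closure (insert a (pairProd D a b)) = E := by
  classical
  have hT := hD.1
  have hF := m22Full hD h22
  have hcl := (involution_classes_M22 hD hprim h22).2
  set S := dperp D a with hS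
  set A := dperp S b with hA
  have hl := hF.data.layerLines a ha
  -- the pairs on the lines
  let Pr : Set (G × G) := {p | p.1 ∈ A ∧ p.2 ∈ ln S b p.1 ∧ p.2 ≠ b ∧ p.2 ≠ p.1}
  have hPco : ∀ {p}, p ∈ Pr → Commute p.1 p.2 := fun {p} hp =>
    hp.2.1.2 _ hp.1.1 hp.1.2.2.symm (Commute.refl _)
  have hP2 : ∀ {p}, p ∈ Pr → p.2 ∈ dperp S p.1 := fun {p} hp =>
    ⟨hp.2.1.1, hp.2.2.2, hPco hp⟩
  have hPpair : ∀ {p}, p ∈ Pr → Factor D 2 (p.1 * p.2) [p.1, p.2] := fun {p} hp =>
    factor_two hp.1.1.1 ⟨hp.2.1.1.1, hp.2.2.2, hPco hp⟩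
  have hPtripleA : ∀ {p}, p ∈ Pr → Factor D 3 (a * (p.1 * p.2)) [a, p.1, p.2] := fun {p} hp => by
    rw [← mul_assoc]
    exact factor_three ha hp.1.1 (hP2 hp)
  have h23 : ∀ {t : G} {l l' : List G}, Factor D 2 t l → Factor D 3 t l' → False := fun h h' => by
    have := hcl 2 3 _ (by norm_num) (by norm_num) (by norm_num) (by norm_num) ⟨_, h⟩ ⟨_, h'⟩
    omega
  have hTE : ∀ {p}, p ∈ Pr → p.1 * p.2 ∈ E := fun {p} hp => hker _
    (mul_mem (mem_pairCen.2 ⟨hp.1.1.2.2.symm, hp.1.2.2.symm⟩)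
      (mem_pairCen.2 ⟨hp.2.1.1.2.2.symm,
        (hp.2.1.2 b hb (Commute.refl b) hp.1.2.2).symm⟩))
    fun z hz => line_product_commute hT hl hb hp.1 hp.2.1 hp.2.2.1 hz
  -- counting the pairs
  have hPcard : Pr.ncard = 540 := by
    have h180 : A.ncard = 180 := (counts hD h22 a ha).2.1 b hb
    have h3 : ∀ x ∈ A, (ln S b x \ {b, x}).ncard = 3 := by
      intro x hx
      rw [Set.ncard_sdiff (by
        rintro u (rfl | rfl)
        exacts [mem_ln_left hb, mem_ln_right hx.1]), hl.five b hb x hx,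
        Set.ncard_pair hx.2.1.symm]
    have hsub : Pr = ↑((Set.toFinite A).toFinset.biUnion fun x =>
        (Set.toFinite (ln S b x \ {b, x})).toFinset.image (Prod.mk x)) := by
      ext ⟨u, v⟩
      simp only [Finset.coe_biUnion, Finset.coe_image, Set.Finite.coe_toFinset, Set.mem_iUnion,
        Set.mem_image, Set.mem_sdiff, Set.mem_insert_iff, Set.mem_singleton_iff, Prod.mk.injEq,
        not_or, exists_prop]
      constructor
      · rintro ⟨h1, h2, h3, h4⟩
        exact ⟨u, h1, v, ⟨h2, h3, h4⟩, rfl, rfl⟩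
      · rintro ⟨x, hx, w, ⟨h2, h3, h4⟩, rfl, rfl⟩
        exact ⟨hx, h2, h3, h4⟩
    rw [hsub, Set.ncard_coe_finset, Finset.card_biUnion, Finset.sum_congr rfl fun x hx => by
      rw [Finset.card_image_of_injective _ fun _ _ h => (Prod.mk.inj h).2,
        ← Set.ncard_eq_toFinset_card, h3 x ((Set.Finite.mem_toFinset _).1 hx)],
      Finset.sum_const, ← Set.ncard_eq_toFinset_card, h180]
    · rfl
    · intro i _ j _ hij
      rw [Function.onFun, Finset.disjoint_left]
      intro q hq1 hq2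
      simp only [Finset.mem_image] at hq1 hq2
      obtain ⟨v, -, rfl⟩ := hq1
      obtain ⟨w, -, e⟩ := hq2
      exact hij (Prod.mk.inj e).1.symm
  let e := Finite.equivFin G
  let f : G × G → G := fun p => if e p.1 < e p.2 then p.1 * p.2 else a * (p.1 * p.2)
  have hinj : Set.InjOn f Pr := by
    intro p hp q hq hpq
    have hsame : p.1 * p.2 = q.1 * q.2 → (p = q ∨ (p.1 = q.2 ∧ p.2 = q.1)) := by
      intro h
      have := Factor.pair hT hF.data.noTwins (hPpair hp) (h ▸ hPpair hq)
      have h1 := (this p.1).1 (by simp)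
      have h2 := (this p.2).1 (by simp)
      simp only [List.mem_cons, List.not_mem_nil, or_false] at h1 h2
      rcases h1 with h1 | h1 <;> rcases h2 with h2 | h2
      · exact absurd (h2.trans h1.symm) hp.2.2.2
      · exact Or.inl (Prod.ext h1 h2)
      · exact Or.inr ⟨h1, h2⟩
      · exact absurd (h2.trans h1.symm) hp.2.2.2
    have hne : e q.1 ≠ e q.2 := fun h => hq.2.2.2 (e.injective h).symm
    by_cases h1 : e p.1 < e p.2 <;> by_cases h2 : e q.1 < e q.2 <;>
      simp only [f, h1, h2, if_true, if_false] at hpq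
    · rcases hsame hpq with h | ⟨k1, k2⟩
      · exact h
      · rw [k1, k2] at h1; exact absurd h1 (lt_asymm h2)
    · exact (h23 (hPpair hp) (hpq ▸ hPtripleA hq)).elim
    · exact (h23 (hPpair hq) (hpq.symm ▸ hPtripleA hp)).elim
    · rcases hsame (mul_left_cancel hpq) with h | ⟨k1, k2⟩
      · exact h
      · rw [k1, k2] at h1; omega
  let T : Set G := insert a ((fun p : G × G => p.1 * p.2) '' Pr)
  have hTE' : Subgroup.closure T ≤ E := by
    rw [Subgroup.closure_le]
    rintro t (rfl | ⟨p, hp, rfl⟩)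
    exacts [haE, hTE hp]
  have hgen : Subgroup.closure T = E := by
    refine Subgroup.eq_of_le_of_card_ge hTE' ?_
    have h1 : 540 ≤ Nat.card ↥(Subgroup.closure T) := by
      have h := Set.ncard_le_ncard (s := f '' Pr) (t := (Subgroup.closure T : Set G)) (by
        rintro - ⟨p, hp, rfl⟩
        have hp' : p.1 * p.2 ∈ Subgroup.closure T :=
          Subgroup.subset_closure (Set.mem_insert_of_mem _ ⟨p, hp, rfl⟩)
        show f p ∈ Subgroup.closure T
        simp only [f]
        split_ifs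
        exacts [hp', mul_mem (Subgroup.subset_closure (Set.mem_insert _ _)) hp'])
      rw [hinj.ncard_image, hPcard, ← Nat.card_coe_set_eq] at h
      exact h
    obtain ⟨k, hk⟩ := Subgroup.card_dvd_of_le hTE'
    rw [hcard] at hk ⊢
    rcases Nat.lt_or_ge k 2 with h | h
    · interval_cases k <;> omega
    · have := Nat.mul_le_mul h1 h
      omega
  rw [← hgen]
  congr 1
  ext t
  simp only [T, Set.mem_insert_iff, Set.mem_image, pairProd, Set.mem_setOf_eq, Prod.exists, Pr]
  exact or_congr_right ⟨fun ⟨x, hx, y, h1, h2, h3, h4⟩ => ⟨x, y, ⟨hx, h1, h2, h3⟩, h4.symm⟩,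
    fun ⟨x, y, ⟨hx, h1, h2, h3⟩, h4⟩ => ⟨x, hx, y, h1, h2, h3, h4.symm⟩⟩

end Cfsg.Agent.M22PairAut
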